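import Mathlib
import Cfsg.Agent.SpClassCount.Classify

/-!
Invariant alternating forms in characteristic two: rules for the powers of `X - 1`.
-/

set_option autoImplicit false
set_option linter.unusedSectionVars false

universe u

namespace SpEvenCount2557

open Polynomial Module GLClassCount2478 SUClassCount2481 SpClassCount2482

variable {F : Type u} [Field F] [CharP F 2]

/-- the polynomial `X - 1` -/
noncomputable abbrev ee (F : Type u) [Field F] : F[X] := X - C 1

/-- the inverse of `X` for a period -/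
noncomputable abbrev uu (F : Type u) [Field F] (N : ℕ) : F[X] := X ^ (N - 1)

/-- the quadratic value at level `j` -/
noncomputable def cc {M : Type u} [AddCommGroup M] [Module F M] [Module F[X] M] (B : M →ₗ[F] M →ₗ[F] F) (j : ℕ)
    (x : M) : F := B (ee F ^ j • x) x

variable {M : Type u} [AddCommGroup M] [Module F M] [Module F[X] M] [IsScalarTower F F[X] M]
  {B : M →ₗ[F] M →ₗ[F] F} {N : ℕ}

lemma sym (hB : IsInv B) (x y : M) : B x y = B y x := by rw [hB.skew, CharTwo.neg_eq]

lemma two_smul_zero {M : Type u} [AddCommGroup M] [Module F M] (x : M) : x + x = (0 : M) := by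
  rw [← two_smul F, CharTwo.two_eq_zero, zero_smul]

lemma exists_uu (N k : ℕ) : ∃ R : F[X], uu F N ^ k = 1 + ee F * R := by
  have h : ee F ∣ uu F N ^ k - 1 := by
    rw [dvd_iff_isRoot]
    simp [IsRoot]
  obtain ⟨R, hR⟩ := h
  exact ⟨R, by rw [← hR]; ring⟩

lemma uu_fix (N k : ℕ) {w : M} (h : ee F • w = 0) : uu F N ^ k • w = w := by
  obtain ⟨R, hR⟩ := exists_uu (F := F) N k
  rw [hR, add_smul, one_smul, mul_comm, ← smul_smul, h, smul_zero, add_zero]

section adj

variable (hB : IsInv B) (hN : Period F M N)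

include hB hN

lemma adjE (k : ℕ) (a b : M) : B (ee F ^ k • a) b = B a ((uu F N ^ k * ee F ^ k) • b) := by
  rw [hB.adj hN, sig_pow, sig_lin hN (mul_one 1) k, smul_smul, show C (-1 : F) = 1 by rw [CharTwo.neg_eq, C_1], mul_one]

lemma swapE (k i : ℕ) (a b : M) :
    B (ee F ^ k • a) (ee F ^ i • b) = B ((uu F N ^ i * ee F ^ (k + i)) • a) b := by
  rw [sym hB, adjE hB hN, sym hB, smul_smul, mul_assoc, ← pow_add, add_comm i k]

lemma moveE {k i : ℕ} {a : M} (h : ee F ^ (k + i + 1) • a = 0) (b : M) :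
    B (ee F ^ k • a) (ee F ^ i • b) = B (ee F ^ (k + i) • a) b := by
  rw [swapE hB hN, ← smul_smul, uu_fix N i (by rwa [smul_smul, ← pow_succ'])]

lemma move_zero {k i : ℕ} {a : M} (h : ee F ^ (k + i) • a = 0) (b : M) :
    B (ee F ^ k • a) (ee F ^ i • b) = 0 := by
  rw [swapE hB hN, ← smul_smul, h, smul_zero, map_zero, LinearMap.zero_apply]

lemma move_zero' {k i : ℕ} {b : M} (h : ee F ^ (k + i) • b = 0) (a : M) :
    B (ee F ^ k • a) (ee F ^ i • b) = 0 := by
  rw [sym hB]
  exact move_zero hB hN (by rwa [add_comm]) a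

lemma symE {j : ℕ} {b : M} (h : ee F ^ (j + 1) • b = 0) (a : M) :
    B (ee F ^ j • a) b = B (ee F ^ j • b) a := by
  rw [adjE hB hN, ← smul_smul, uu_fix N j (by rwa [smul_smul, ← pow_succ']), sym hB]

lemma cc_add_of {j : ℕ} {z : M} (h : ee F ^ (j + 1) • z = 0) (x : M) : cc B j (x + z) = cc B j x + cc B j z := by
  simp only [cc, smul_add, map_add, LinearMap.add_apply, symE hB hN h x]
  linear_combination B (ee F ^ j • z) x * CharTwo.two_eq_zero (R := F)

lemma cross_odd {j : ℕ} (hj : Odd j) {z : M} (h : ee F ^ (j + 2) • z = 0) (x : M) :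
    B (ee F ^ j • x) z + B (ee F ^ j • z) x = B (ee F ^ (j + 1) • z) x := by
  set w := ee F ^ j • z with hw
  have hw2 : ee F • (ee F • w) = 0 := by
    rw [hw, smul_smul, smul_smul, mul_assoc, ← pow_succ', ← pow_succ']; exact h
  have hfix : ∀ k, uu F N ^ k • (ee F • w) = ee F • w := fun k => uu_fix N k hw2
  have h1 : uu F N • w = w + ee F • w := by
    have e : (X : F[X]) • (w + ee F • w) = w := by
      have eX : ∀ v : M, (X : F[X]) • v = ee F • v + v := fun v => by
        rw [sub_smul, C_1, one_smul, sub_add_cancel]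
      rw [eX, smul_add, hw2, add_zero, add_comm w, ← add_assoc, two_smul_zero (F := F), zero_add]
    conv_lhs => rw [← e, smul_smul, ← pow_succ, show N - 1 + 1 = N by have := hN.1; omega, hN.2]
  have h2 : ∀ k : ℕ, uu F N ^ k • w = w + (k : F) • (ee F • w) := by
    intro k
    induction k with
    | zero => simp
    | succ k ih =>
      rw [pow_succ', ← smul_smul, ih, smul_add, h1, smul_comm (uu F N) (k : F), ← pow_one (uu F N), hfix,
        Nat.cast_add, Nat.cast_one, add_smul, one_smul]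
      abel
  have hjF : (j : F) = 1 := by
    obtain ⟨i, rfl⟩ := hj
    push_cast
    rw [CharTwo.two_eq_zero, zero_mul, zero_add]
  rw [adjE hB hN j x z, ← smul_smul, ← hw, h2, hjF, one_smul, map_add, sym hB x w, sym hB x (ee F • w),
    show ee F ^ (j + 1) • z = ee F • w by rw [hw, smul_smul, ← pow_succ']]
  linear_combination B w x * CharTwo.two_eq_zero (R := F)

lemma cc_add_odd {j : ℕ} (hj : Odd j) {z : M} (h : ee F ^ (j + 2) • z = 0) (x : M) :
    cc B j (x + z) = cc B j x + cc B j z + B (ee F ^ (j + 1) • z) x := by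
  simp only [cc, smul_add, map_add, LinearMap.add_apply]
  linear_combination cross_odd hB hN hj h x

lemma cc_smul (j : ℕ) (l : F) (x : M) : cc B j (l • x) = l * l * cc B j x := by
  rw [cc, cc, smul_comm, map_smul, map_smul, LinearMap.smul_apply, smul_eq_mul, smul_eq_mul, mul_assoc]

end adj

lemma even_value (i N : ℕ) : ∃ q : F[X], ∀ (B : M →ₗ[F] M →ₗ[F] F), IsInv B → Period F M N → ∀ x : M,
    cc B (2 * i) x = B ((q * ee F ^ (2 * i + 1)) • x) x := by
  obtain ⟨R, hR⟩ := exists_uu (F := F) N i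
  refine ⟨uu F N ^ i * R, fun B hB hN x => ?_⟩
  rw [cc, two_mul, pow_add, ← smul_smul, adjE hB hN, ← smul_smul, hR, add_smul, one_smul, map_add, hB.alt,
    zero_add, adjE hB hN, sym hB x, smul_smul, smul_smul, mul_assoc, ← hR]
  congr 3
  ring

lemma cc_even_zero (hB : IsInv B) (hN : Period F M N) {j : ℕ} (hj : Even j) {x : M}
    (h : ee F ^ (j + 1) • x = 0) : cc B j x = 0 := by
  obtain ⟨i, rfl⟩ := hj
  obtain ⟨q, hq⟩ := even_value (F := F) (M := M) i N
  rw [← two_mul] at h ⊢
  rw [hq B hB hN, ← smul_smul, h, smul_zero, map_zero, LinearMap.zero_apply]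

/-! ### Comparing two forms -/

lemma agree {B₁ B₂ : M →ₗ[F] M →ₗ[F] F} {a b a' b' : M} {j : ℕ}
    (h : ∀ k, j ≤ k → B₁ (ee F ^ k • a) b = B₂ (ee F ^ k • a') b') (p : F[X]) :
    B₁ ((p * ee F ^ j) • a) b = B₂ ((p * ee F ^ j) • a') b' := by
  revert j
  induction p using Polynomial.induction_on with
  | C c =>
    intro j h
    rw [← smul_smul, ← smul_smul, C_smul', C_smul', map_smul B₁ c, map_smul B₂ c, LinearMap.smul_apply, LinearMap.smul_apply,
      h j le_rfl]
  | add r s hr hs =>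
    intro j h
    rw [add_mul, add_smul, add_smul, map_add, map_add, LinearMap.add_apply, LinearMap.add_apply, hr h, hs h]
  | monomial k c ih =>
    intro j h
    have e : C c * X ^ (k + 1) * ee F ^ j = C c * X ^ k * ee F ^ (j + 1) + C c * X ^ k * ee F ^ j := by
      simp only [ee, C_1]; ring
    rw [e, add_smul, add_smul, map_add, map_add, LinearMap.add_apply, LinearMap.add_apply, ih h,
      ih fun k hk => h k (by omega)]

lemma agree_swap {B₁ B₂ : M →ₗ[F] M →ₗ[F] F} (h₁ : IsInv B₁) (h₂ : IsInv B₂) (hN : Period F M N)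
    {a b a' b' : M} {j : ℕ} (h : ∀ k, j ≤ k → B₁ (ee F ^ k • a) b = B₂ (ee F ^ k • a') b') (k : ℕ) (hk : j ≤ k) :
    B₁ (ee F ^ k • b) a = B₂ (ee F ^ k • b') a' := by
  rw [adjE h₁ hN, adjE h₂ hN, sym h₁ b, sym h₂ b']
  exact agree (fun i hi => h i (hk.trans hi)) _

lemma agree_even {B₁ B₂ : M →ₗ[F] M →ₗ[F] F} (h₁ : IsInv B₁) (h₂ : IsInv B₂) (hN : Period F M N) {a a' : M}
    {j : ℕ} (hj : Even j) (h : ∀ k, j + 1 ≤ k → cc B₁ k a = cc B₂ k a') : cc B₁ j a = cc B₂ j a' := by
  obtain ⟨i, rfl⟩ := hj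
  obtain ⟨q, hq⟩ := even_value (F := F) (M := M) i N
  rw [← two_mul] at h ⊢
  rw [hq B₁ h₁ hN, hq B₂ h₂ hN]
  exact agree h _

/-! ### The field -/

/-- membership in the image of `l ↦ l ^ 2 + l` -/
def Wp (a : F) : Prop := ∃ l : F, l * l + l = a

lemma Wp.add {a b : F} (ha : Wp a) (hb : Wp b) : Wp (a + b) := by
  obtain ⟨x, rfl⟩ := ha
  obtain ⟨y, rfl⟩ := hb
  exact ⟨x + y, by linear_combination (x * y) * CharTwo.two_eq_zero (R := F)⟩

lemma exists_sqrt [Finite F] (a : F) : ∃ b : F, b * b = a := by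
  refine Finite.surjective_of_injective (f := fun b : F => b * b) (fun x y h => ?_) a
  have e : (x + y) * (x + y) = 0 := by
    linear_combination (norm := skip) h + (y * y + x * y) * CharTwo.two_eq_zero (R := F)
    ring
  have := mul_self_eq_zero.1 e
  rwa [← CharTwo.sub_eq_add, sub_eq_zero] at this

lemma exists_tau [Finite F] : ∃ τ : F, ¬ Wp τ ∧ ∀ a : F, Wp a ∨ Wp (a + τ) := by
  classical
  haveI := Fintype.ofFinite F
  set f : F → F := fun l => l * l + l with hf
  have h01 : f 0 = f 1 := by simp [hf, CharTwo.add_self_eq_zero]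
  obtain ⟨τ, hτ⟩ : ∃ τ, τ ∉ Set.range f := by
    by_contra hall
    push Not at hall
    exact zero_ne_one ((Finite.injective_iff_surjective.2 hall) h01)
  have hτ' : ¬ Wp τ := fun ⟨l, hl⟩ => hτ ⟨l, hl⟩
  refine ⟨τ, hτ', fun a => ?_⟩
  set R : Finset F := Finset.univ.image f with hR
  have hfib : Fintype.card F ≤ 2 * R.card := by
    rw [← Finset.card_univ]
    refine Finset.card_le_mul_card_image _ 2 fun b hb => ?_
    obtain ⟨x, -, rfl⟩ := Finset.mem_image.1 hb
    refine (Finset.card_le_card (t := {x, x + 1}) fun y hy => ?_).trans Finset.card_le_two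
    have hy' := (Finset.mem_filter.1 hy).2
    have e : (y + x) * (y + x + 1) = 0 := by
      simp only [hf] at hy'
      linear_combination (norm := skip) hy' + (x * y + x * x + x) * CharTwo.two_eq_zero (R := F)
      ring
    rcases mul_eq_zero.1 e with h | h
    · simp [CharTwo.add_eq_zero.1 h]
    · rw [add_assoc] at h
      simp [CharTwo.add_eq_zero.1 h]
  have hdis : Disjoint R (R.image (· + τ)) := by
    rw [Finset.disjoint_left]
    intro b hb hb'
    obtain ⟨c, hc, rfl⟩ := Finset.mem_image.1 hb'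
    obtain ⟨x, -, rfl⟩ := Finset.mem_image.1 hc
    obtain ⟨y, -, hy⟩ := Finset.mem_image.1 hb
    refine hτ' ?_
    have h := Wp.add ⟨y, hy⟩ ⟨x, (rfl : x * x + x = f x)⟩
    rwa [add_comm (f x) τ, add_assoc, CharTwo.add_self_eq_zero, add_zero] at h
  have huniv : R ∪ R.image (· + τ) = Finset.univ := by
    refine Finset.eq_univ_of_card _ (le_antisymm (Finset.card_le_univ _) ?_)
    rw [Finset.card_union_of_disjoint hdis, Finset.card_image_of_injective _ (add_left_injective τ)]
    omega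
  rcases Finset.mem_union.1 (huniv ▸ Finset.mem_univ a) with h | h
  · obtain ⟨x, -, rfl⟩ := Finset.mem_image.1 h
    exact Or.inl ⟨x, rfl⟩
  · obtain ⟨c, hc, rfl⟩ := Finset.mem_image.1 h
    obtain ⟨x, -, rfl⟩ := Finset.mem_image.1 hc
    exact Or.inr ⟨x, by simp only [hf]; rw [add_assoc (x * x + x), CharTwo.add_self_eq_zero, add_zero]⟩

end SpEvenCount2557
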