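import Cfsg.Agent.GenA.SpEvenClassCount.Split

/-!
Isometry classes with given module data and given quadratic label, characteristic two.
-/

set_option autoImplicit false
set_option linter.unusedSectionVars false

universe u

namespace SpEvenCount2557

open Polynomial Module GLClassCount2478 SUClassCount2481 SpClassCount2482

variable {F : Type u} [Field F] [CharP F 2] [Finite F]

/-! ### Self-reciprocal polynomials -/

lemma eval_one_of_odd {g : F[X]} (h : SR g) (ho : Odd g.natDegree) : g.eval 1 = 0 := by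
  obtain ⟨b, hb⟩ := ho
  have hc : g.coeff 0 = 1 := by
    rcases h.const_cases with h1 | h1
    · exact h1
    · rwa [CharTwo.neg_eq] at h1
  rw [eval_eq_sum_range, hb, show 2 * b + 1 + 1 = (b + 1) + (b + 1) by omega, Finset.sum_range_add]
  simp only [one_pow, mul_one]
  rw [show ∑ i ∈ Finset.range (b + 1), g.coeff (b + 1 + i) = ∑ i ∈ Finset.range (b + 1), g.coeff i from ?_,
    CharTwo.add_self_eq_zero]
  rw [← Finset.sum_range_reflect (fun i => g.coeff (b + 1 + i))]
  refine Finset.sum_congr rfl fun i hi => ?_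
  have hi' := Finset.mem_range.1 hi
  have := h.coeff_eq (i := i) (by omega)
  rw [hc, one_mul, hb] at this
  rw [show b + 1 + (b + 1 - 1 - i) = 2 * b + 1 - i by omega, this]

lemma eval_one_ne {f : F[X]} (hfm : f.Monic) (hfi : Irreducible f) (hne : f ≠ ee F) : f.eval 1 ≠ 0 := fun h =>
  hne (eq_of_monic_of_associated hfm (monic_X_sub_C 1)
    ((irreducible_X_sub_C 1).associated_of_dvd hfi (dvd_iff_isRoot.2 h)).symm)

lemma other_not_dvd {f : F[X]} (hfm : f.Monic) (hfi : Irreducible f) (hne : f ≠ ee F) : ¬ f ∣ X ^ 2 - 1 := by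
  intro h
  have e : (X : F[X]) ^ 2 - 1 = ee F * ee F := by
    simp only [ee, C_1]
    linear_combination (X - 1 : F[X]) * CharTwo.two_eq_zero (R := F[X])
  rw [e] at h
  exact hne (eq_of_monic_of_associated hfm (monic_X_sub_C 1)
    (hfi.associated_of_dvd (irreducible_X_sub_C 1) ((hfi.prime.dvd_or_dvd h).elim id id)))

/-- a fixed-point-free block has no vector killed by a power of `X - 1` -/
lemma zero_of_other {f : F[X]} (hfm : f.Monic) (hfi : Irreducible f) (hne : f ≠ ee F) {m s : ℕ} {x : blk (f, m)}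
    (hx : ee F ^ s • x = 0) : x = 0 := by
  have hnd : ¬ f ∣ ee F := fun hd => hne (eq_of_monic_of_associated hfm (monic_X_sub_C 1)
    (hfi.associated_of_dvd (irreducible_X_sub_C 1) hd))
  obtain ⟨a, b, hab⟩ := (hfi.coprime_iff_not_dvd.2 hnd).pow (m := m) (n := s)
  rw [← one_smul F[X] x, ← hab, add_smul, ← smul_smul, ← smul_smul, blk_kill, hx, smul_zero, smul_zero, add_zero]

section cyclic

variable {M : Type u} [AddCommGroup M] [Module F M] [Module F[X] M] [IsScalarTower F F[X] M]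
  {B : M →ₗ[F] M →ₗ[F] F} {N : ℕ}

/-- a cyclic piece for a self-dual polynomial without the root one -/
lemma exists_cyclic_other (hB : IsInv B) (hN : Period F M N) {f : F[X]} (hfm : f.Monic) (hfi : Irreducible f)
    (hdu : du f = f) (hne : f ≠ ee F) {m : ℕ}
    (hm : 1 ≤ m) {u w : M} (hu : f ^ m • u = 0) (hw : f ^ m • w = 0) (huw : B (f ^ (m - 1) • u) w ≠ 0) :
    ∃ u', f ^ m • u' = 0 ∧ ∃ r : F[X], B (r • f ^ (m - 1) • u') u' ≠ 0 := by
  by_contra hall
  push Not at hall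
  obtain ⟨e, he⟩ : ∃ e, e = f ^ (m - 1) := ⟨_, rfl⟩
  rw [← he] at huw
  simp only [← he] at hall
  have hkey : ∀ (r : F[X]) (x y : M), f ^ m • x = 0 → f ^ m • y = 0 →
      B ((r * e) • x) y = B (sig N (r * e) • x) y := by
    intro r x y hx hy
    have h := hall (x + y) (by rw [smul_add, hx, hy, add_zero]) r
    simp only [smul_add, map_add, LinearMap.add_apply, hall x hx r, hall y hy r, zero_add, add_zero] at h
    have e4 : B ((r * e) • x) y = B x ((r * e) • y) := by
      rw [← smul_smul, ← smul_smul, hB.skew x]; linear_combination h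
    rw [e4, hB.swap hN]
  have hf0 : f.coeff 0 ≠ 0 := by
    intro h0
    have := congrArg (coeff · f.natDegree) hdu
    rw [coeff_du f le_rfl, h0, inv_zero, mul_zero, hfm.coeff_natDegree] at this
    exact zero_ne_one this
  have hv : ∀ r : F[X], (r * e - sig N (r * e)) • u = 0 := by
    intro r
    by_contra hne'
    set v := (r * e - sig N (r * e)) • u with hvdef
    have hperp : ∀ c : F[X], B v (c • w) = 0 := fun c => by
      rw [hvdef, sub_smul, map_sub, LinearMap.sub_apply, hkey r u (c • w) hu (by rw [smul_comm, hw, smul_zero]),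
        sub_self]
    have hfv : f • (sig N (r * e) • u) = 0 := by
      have hfe : f • (sig N e • u) = 0 := by
        have h1 : ∀ y : M, du (f ^ (m - 1)) • y = sig N e • (dfac (f ^ (m - 1)) • y) := fun y => by
          rw [du_smul hN, he]
        have hcu : IsCoprime (dfac (f ^ (m - 1))) (f ^ m) := by
          refine coprime_dfac (by rw [coeff_zero_eq_eval_zero, eval_pow, ← coeff_zero_eq_eval_zero]; exact pow_ne_zero _ hf0) hfi (fun hd => hf0 ?_) m
          rw [eq_of_monic_of_associated hfm monic_X (hfi.associated_of_dvd irreducible_X hd), coeff_X_zero]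
        obtain ⟨a, b, hab⟩ := hcu
        have : u = dfac (f ^ (m - 1)) • (a • u) := by
          conv_lhs => rw [← one_smul F[X] u, ← hab, add_smul, ← smul_smul b, hu, smul_zero, add_zero, mul_comm,
            ← smul_smul]
        rw [this, ← h1, du_pow, hdu, smul_smul, ← pow_succ', Nat.sub_add_cancel hm, smul_comm, hu, smul_zero]
      rw [sig_mul, ← smul_smul, smul_comm, hfe, smul_zero]
    have hfv' : f • v = 0 := by
      rw [hvdef, sub_smul, smul_sub, hfv, sub_zero, ← smul_smul r e, smul_comm f r, smul_smul f e, he, ← pow_succ',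
        Nat.sub_add_cancel hm, hu, smul_zero]
    obtain ⟨p, hp⟩ : ∃ p : F[X], v = p • u := ⟨_, rfl⟩
    have hpd : f ^ (m - 1) ∣ p := by
      by_contra hnd'
      let x : blk (f, m) := (f * p) • one' f m
      have hx : x ≠ 0 := by
        rw [Ne, smul_one_eq_zero, show f ^ m = f * f ^ (m - 1) by rw [← pow_succ', Nat.sub_add_cancel hm],
          mul_dvd_mul_iff_left hfi.ne_zero]
        exact hnd'
      obtain ⟨a, ha⟩ := socle_of_ne_zero hfi hx
      have := congrArg (cyc u hu) ha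
      simp only [x, map_smul, cyc_one, ← smul_smul] at this
      rw [← hp, hfv', smul_zero] at this
      exact huw (by rw [he, ← this, map_zero, LinearMap.zero_apply])
    obtain ⟨a, rfl⟩ := hpd
    rw [← he] at hp
    have ha : ¬ f ∣ a := by
      rintro ⟨b, rfl⟩
      refine hne' ?_
      rw [hp, he, ← mul_assoc, ← pow_succ, Nat.sub_add_cancel hm, mul_comm, ← smul_smul, hu, smul_zero]
    obtain ⟨c, d, hcd⟩ := hfi.coprime_iff_not_dvd.2 ha
    refine huw ?_
    have hev : e • u = d • v := by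
      have h1 : (f * e) • u = 0 := by rw [he, ← pow_succ', Nat.sub_add_cancel hm, hu]
      calc e • u = ((c * f + d * a) * e) • u := by rw [hcd, one_mul]
        _ = c • ((f * e) • u) + d • ((e * a) • u) := by rw [smul_smul, smul_smul, ← add_smul]; congr 1; ring
        _ = d • v := by rw [h1, smul_zero, zero_add, ← hp]
    rw [hev, hB.adj hN]
    exact hperp _
  have h1 : e • u = sig N e • u := by
    have := hv 1
    rwa [one_mul, sub_smul, sub_eq_zero] at this
  have hX : (X : F[X]) • (e • u) = (X : F[X]) ^ (N - 1) • (e • u) := by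
    have := hv X
    rw [sub_smul, sub_eq_zero, sig_mul, ← smul_smul, ← smul_smul, ← h1] at this
    rwa [sig, X_comp] at this
  have hX2 : ((X : F[X]) ^ 2 - 1) • (e • u) = 0 := by
    rw [sub_smul, one_smul, sq, ← smul_smul, hX, smul_smul, ← pow_succ', Nat.sub_add_cancel (by have := hN.1; omega),
      hN.2, sub_self]
  have heu : e • u ≠ 0 := fun h => huw (by rw [h, map_zero, LinearMap.zero_apply])
  have hfd : f ∣ (X : F[X]) ^ 2 - 1 := by
    by_contra hnd'
    obtain ⟨a, b, hab⟩ := hfi.coprime_iff_not_dvd.2 hnd'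
    refine heu ?_
    rw [← one_smul F[X] (e • u), ← hab, add_smul, ← smul_smul, ← smul_smul, hX2, smul_smul f e, he, ← pow_succ',
      Nat.sub_add_cancel hm, hu, smul_zero, smul_zero, add_zero]
  exact other_not_dvd hfm hfi hne hfd

end cyclic

/-! ### Labels and numbers -/

/-- multiplicity of `(X - 1, s)` -/
noncomputable def mult (D : Multiset (F[X] × ℕ)) (s : ℕ) : ℕ := by
  classical
  exact D.count (ee F, s)

lemma mult_add (D E : Multiset (F[X] × ℕ)) (s : ℕ) : mult (D + E) s = mult D s + mult E s := by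
  classical
  simp [mult, Multiset.count_add]

lemma mult_pos {D : Multiset (F[X] × ℕ)} {s : ℕ} : 0 < mult D s ↔ (ee F, s) ∈ D := by
  classical
  simp [mult, Multiset.count_pos]

lemma mult_eq_zero {D : Multiset (F[X] × ℕ)} {s : ℕ} (h : (ee F, s) ∉ D) : mult D s = 0 := by
  classical
  simpa [mult, Multiset.count_eq_zero] using h

lemma mult_singleton (x : F[X] × ℕ) (s : ℕ) [Decidable (x = (ee F, s))] :
    mult ({x} : Multiset (F[X] × ℕ)) s = if x = (ee F, s) then 1 else 0 := by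
  classical
  simp only [mult, Multiset.count_singleton]
  split_ifs <;> simp_all

/-- the sizes at which two forms are possible -/
def bit (a : ℕ → ℕ) (S : Finset ℕ) (s : ℕ) : Prop :=
  (s ∈ S ∧ 4 ≤ s ∧ s - 2 ∉ S ∧ a (s - 1) = 0) ∨ (Odd s ∧ 3 ≤ s ∧ 0 < a s ∧ s - 1 ∉ S)

/-- the set of such sizes -/
noncomputable def bits (D : Multiset (F[X] × ℕ)) (S : Finset ℕ) : Finset ℕ := by
  classical
  exact (D.toFinset.image Prod.snd ∪ S).filter (bit (mult D) S)

lemma mem_bits {D : Multiset (F[X] × ℕ)} {S : Finset ℕ} {s : ℕ} : s ∈ bits D S ↔ bit (mult D) S s := by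
  classical
  refine ⟨fun h => (Finset.mem_filter.1 h).2, fun h => Finset.mem_filter.2 ⟨?_, h⟩⟩
  rcases h with ⟨h, -⟩ | ⟨-, -, h, -⟩
  · exact Finset.mem_union.2 (Or.inr h)
  · exact Finset.mem_union.2 (Or.inl (Finset.mem_image.2 ⟨_, Multiset.mem_toFinset.2 (mult_pos.1 h), rfl⟩))

/-- the number of classes -/
noncomputable def W (D : Multiset (F[X] × ℕ)) (S : Finset ℕ) : ℕ := 2 ^ (bits D S).card

/-- the conditions on a label -/
def Compat (D : Multiset (F[X] × ℕ)) (S : Finset ℕ) : Prop :=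
  ∀ s, (s ∈ S → 0 < mult D s) ∧ (s ∉ S → Even (mult D s))

/-- among more than `W D S` objects two are isometric -/
def Pigeon (D : Multiset (F[X] × ℕ)) (S : Finset ℕ) : Prop :=
  ∀ (ι : Type) [Fintype ι] (x : ι → SObj F), (∀ i, HasData (x i).M D ∧ Lab (x i) S) → W D S < Fintype.card ι →
    ∃ i j, i ≠ j ∧ Isom (x i) (x j)

/-- everything about a pair of data and label -/
def Main (D : Multiset (F[X] × ℕ)) (S : Finset ℕ) : Prop := Good D ∧ Compat D S ∧ Pigeon D S

lemma exists_lab {X : SObj F} {D : Multiset (F[X] × ℕ)} (hX : HasData X.M D) : ∃ S, Lab X S := by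
  classical
  obtain ⟨M, hM⟩ : ∃ M, ∀ x ∈ D, x.2 ≤ M :=
    ⟨(D.toFinset).sup Prod.snd, fun x hx => Finset.le_sup (Multiset.mem_toFinset.2 hx)⟩
  refine ⟨(Finset.range (M + 1)).filter (Eps X), fun s => ⟨fun h => (Finset.mem_filter.1 h).2, fun h => ?_⟩⟩
  exact Finset.mem_filter.2 ⟨Finset.mem_range.2 (Nat.lt_succ_of_le (eps_le hX hM h)), h⟩

/-- the induction step -/
theorem step {D : Multiset (F[X] × ℕ)} {S S' : Finset ℕ} {N' : Type u} [AddCommGroup N'] [Module F N']
    [Module F[X] N'] [IsScalarTower F F[X] N'] {E : Multiset (F[X] × ℕ)} (hN' : HasData N' E) {m : ℕ} (hm : 1 ≤ m)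
    (hEne : E ≠ 0) (hE : ∀ x ∈ E, x.1.Monic ∧ Irreducible x.1 ∧ x.2 = m) (hgE : Good E)
    (hmax : ∀ x ∈ D, x.2 ≤ m) (X₀ : SObj F) (hX₀ : HasData X₀.M D) (hS₀ : Lab X₀ S)
    (IH : ∀ (D' : Multiset (F[X] × ℕ)), D'.card < D.card → D = E + D' → ∀ (Y : SObj F) (T : Finset ℕ),
      HasData Y.M D' → Lab Y T → Main D' T)
    (κ : Type) [Fintype κ] (hW : ∀ D', D = E + D' → Compat D' S' → Fintype.card κ * W D' S' ≤ W D S)
    (hC : ∀ D', D = E + D' → Compat D' S' → Compat D S)
    (col : (N' →ₗ[F] N' →ₗ[F] F) → κ → Prop)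
    (hex : ∀ X : SObj F, HasData X.M D → Lab X S → ∃ (c : κ) (φ : N' →ₗ[F[X]] X.M), Nondeg (pull X.B φ) ∧
      col (pull X.B φ) c ∧ ∀ (Y : SObj F) (Φ : (N' × Y.M) ≃ₗ[F[X]] X.M), (∀ a, Φ (a, 0) = φ a) →
        (∀ a b, X.B (Φ a) (Φ b) = pull X.B φ a.1 b.1 + Y.B a.2 b.2) → Lab Y S')
    (hiso : ∀ (c : κ) (B₁ B₂ : N' →ₗ[F] N' →ₗ[F] F) (N : ℕ), Period F N' N → IsInv B₁ → IsInv B₂ → Nondeg B₁ →
      Nondeg B₂ → col B₁ c → col B₂ c → ∃ ψ : N' →ₗ[F[X]] N', ∀ a b, B₁ (ψ a) (ψ b) = B₂ a b) :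
    Main D S := by
  classical
  obtain ⟨c₀, φ₀, hφ₀, -, hlab₀⟩ := hex X₀ hX₀ hS₀
  haveI : Finite N' := Finite.of_injective _ (injective_of_nondeg hφ₀)
  obtain ⟨Y₀, Φ₀, hΦ₀, hΦ₀'⟩ := exists_split X₀ φ₀ hφ₀
  obtain ⟨D', hD', hY₀⟩ := data_split hX₀ hN' Φ₀ hm hE hmax
  have hcard : D'.card < D.card := by
    rw [hD', Multiset.card_add]
    have := Multiset.card_pos.2 hEne
    omega
  obtain ⟨hgood, hcomp, hpig⟩ := IH D' hcard hD' Y₀ S' hY₀ (hlab₀ Y₀ Φ₀ hΦ₀ hΦ₀')
  refine ⟨hD' ▸ hgE.add hgood, hC D' hD' hcomp, ?_⟩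
  intro ι _ x hx hι
  choose c φ hφ hcol hlab using fun i => hex (x i) (hx i).1 (hx i).2
  choose Y Φ hΦ0 hΦ using fun i => exists_split (x i) (φ i) (hφ i)
  have hY : ∀ i, HasData (Y i).M D' := fun i => by
    obtain ⟨D'', h1, h2⟩ := data_split (hx i).1 hN' (Φ i) hm hE hmax
    rwa [add_left_cancel (hD'.symm.trans h1)]
  obtain ⟨k, hk⟩ := Fintype.exists_lt_card_fiber_of_mul_lt_card c (lt_of_le_of_lt (hW D' hD' hcomp) hι)
  obtain ⟨⟨i, hi⟩, ⟨j, hj⟩, hne, he⟩ := hpig {i // c i = k} (fun i => Y i.1)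
    (fun i => ⟨hY i.1, hlab i.1 _ _ (hΦ0 i.1) (hΦ i.1)⟩) (by rw [Fintype.card_subtype]; exact hk)
  refine ⟨i, j, fun h => hne (Subtype.ext h), ?_⟩
  obtain ⟨N, hN⟩ := exists_period (x i)
  obtain ⟨ψ, hψ⟩ := hiso k (pull (x j).B (φ j)) (pull (x i).B (φ i)) N
    (Period.of_injective (injective_of_nondeg (hφ i)) hN) ((x j).inv.pull _) ((x i).inv.pull _) (hφ j) (hφ i)
    (hj ▸ hcol j) (hi ▸ hcol i)
  exact isom_of_split _ _ (hφ i) ψ hψ he (Φ i) (hΦ i) (Φ j) (hΦ j)

lemma W_mono {D D' : Multiset (F[X] × ℕ)} {S S' : Finset ℕ} (h : ∀ s, bit (mult D') S' s → bit (mult D) S s) :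
    W D' S' ≤ W D S :=
  Nat.pow_le_pow_right two_pos (Finset.card_le_card fun s hs => mem_bits.2 (h s (mem_bits.1 hs)))

lemma W_two {D D' : Multiset (F[X] × ℕ)} {S S' : Finset ℕ} (h : ∀ s, bit (mult D') S' s → bit (mult D) S s) {m : ℕ}
    (h1 : bit (mult D) S m) (h2 : ¬ bit (mult D') S' m) : 2 * W D' S' ≤ W D S := by
  classical
  rw [W, W, ← pow_succ']
  refine Nat.pow_le_pow_right two_pos ?_
  rw [← Finset.card_insert_of_notMem (s := bits D' S') (a := m) fun hm => h2 (mem_bits.1 hm)]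
  refine Finset.card_le_card fun s hs => ?_
  rcases Finset.mem_insert.1 hs with rfl | hs
  · exact mem_bits.2 h1
  · exact mem_bits.2 (h s (mem_bits.1 hs))

/-- removing from the top creates no new size with two forms -/
lemma bit_down {a a' : ℕ → ℕ} {S S' : Finset ℕ} {m : ℕ} (ha : ∀ s, s ≠ m → a' s = a s) (ha' : ∀ s, a' s ≤ a s)
    (hzero : ∀ s, m < s → a s = 0) (hS : ∀ s ∈ S, s ≤ m) (hS' : ∀ s, s ≠ m → (s ∈ S' ↔ s ∈ S))
    (hsub : S' ⊆ S) {s : ℕ} (h : bit a' S' s) : bit a S s := by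
  rcases h with ⟨h1, h2, h3, h4⟩ | ⟨h1, h2, h3, h4⟩
  · have := hS s (hsub h1)
    refine Or.inl ⟨hsub h1, h2, fun h => h3 ((hS' _ (by omega)).2 h), ?_⟩
    rwa [← ha (s - 1) (by omega)]
  · have hs : s ≤ m := by
      by_contra hlt
      have := ha' s
      have := hzero s (by omega)
      omega
    exact Or.inr ⟨h1, h2, lt_of_lt_of_le h3 (ha' s), fun h => h4 ((hS' _ (by omega)).2 h)⟩

lemma main_zero (X₀ : SObj F) (hX₀ : HasData X₀.M (0 : Multiset (F[X] × ℕ))) {S : Finset ℕ} (hS : Lab X₀ S) :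
    Main (0 : Multiset (F[X] × ℕ)) S := by
  classical
  have hs : ∀ X : SObj F, HasData X.M (0 : Multiset (F[X] × ℕ)) → Subsingleton X.M := fun X hX => by
    have := hX.1
    rw [dim', Multiset.map_zero, Multiset.sum_zero, pow_zero] at this
    exact (Nat.card_eq_one_iff_unique.1 this).1
  haveI := hs X₀ hX₀
  have hSe : ∀ s, s ∉ S := fun s h => by
    obtain ⟨x, -, hc⟩ := (hS s).1 h
    exact hc (by rw [cc, Subsingleton.elim (ee F ^ (s - 1) • x) 0, map_zero, LinearMap.zero_apply])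
  refine ⟨fun k => ?_, fun s => ⟨fun h => absurd h (hSe s), fun _ => by simp [mult]⟩, fun ι _ x hx hι => ?_⟩
  · have : prodk (0 : Multiset (F[X] × ℕ)) k = 1 := rfl
    rw [this]
    exact ⟨SR_one, fun _ => ⟨by simp, coeff_one_zero⟩⟩
  · have hι' : 1 < Fintype.card ι := by
      refine lt_of_le_of_lt ?_ hι
      exact Nat.one_le_two_pow
    obtain ⟨i, j, hij⟩ := Fintype.one_lt_card_iff.1 hι'
    haveI := hs _ (hx i).1
    haveI := hs _ (hx j).1
    exact ⟨i, j, hij, LinearEquiv.ofSubsingleton _ _, fun a b => by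
      rw [Subsingleton.elim a 0, Subsingleton.elim ((LinearEquiv.ofSubsingleton (x i).M (x j).M) 0) 0, map_zero,
        map_zero, LinearMap.zero_apply, LinearMap.zero_apply]⟩

section parity

variable {m : ℕ} {D : Multiset (F[X] × ℕ)}
  (IH : ∀ (D' : Multiset (F[X] × ℕ)), D'.card < D.card → (∀ x ∈ D', x ∈ D) → ∀ (Y : SObj F) (T : Finset ℕ),
    HasData Y.M D' → Lab Y T → Main D' T)

include IH

lemma odd_of_special {X : SObj F} {D₁ : Multiset (F[X] × ℕ)} (hle : D₁.card ≤ D.card) (hsub : ∀ x ∈ D₁, x ∈ D)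
    (hX : HasData X.M D₁) (hm : 1 ≤ m) (hmax : ∀ x ∈ D₁, x.2 ≤ m) {e : X.M} (he : Special X m e)
    (he1 : cc X.B (m - 1) e = 1) : Odd (mult D₁ m) := by
  classical
  obtain ⟨N, hN⟩ := exists_period X
  have hfm := monic_X_sub_C (1 : F)
  have hfi := irreducible_X_sub_C (1 : F)
  have hnd : Nondeg (pull X.B (cyc e he.1)) := nondeg_cyclic X.inv hN hfi he.1 1
    (by rw [one_smul]; exact fun h => one_ne_zero (he1.symm.trans h))
  haveI := finite_blk (m := m) hfm
  obtain ⟨Y, Φ, hΦ0, hΦ⟩ := exists_split X (cyc e he.1) hnd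
  obtain ⟨D', hD', hY⟩ := data_split hX (hasData_blk hfm hfi m) Φ hm
    (fun x hx => by rw [Multiset.mem_singleton.1 hx]; exact ⟨hfm, hfi, rfl⟩) hmax
  obtain ⟨T, hT⟩ := exists_lab hY
  have hcard : D'.card < D.card := by
    rw [hD', Multiset.card_add, Multiset.card_singleton] at hle
    omega
  obtain ⟨-, hC, -⟩ := IH D' hcard (fun x hx => hsub x (hD' ▸ Multiset.mem_add.2 (Or.inr hx))) Y T hY hT
  have hev := (hC m).2 fun h => comp_special Φ hΦ0 hΦ he ((hT m).1 h)
  rw [hD', mult_add, mult_singleton, if_pos rfl]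
  exact Odd.add_even odd_one hev

lemma even_of_special {X : SObj F} (hX : HasData X.M D) (hm : 1 ≤ m) (hmax : ∀ x ∈ D, x.2 ≤ m) {x : X.M}
    (hx : ee F ^ m • x = 0) (hx1 : cc X.B (m - 1) x = 1) {e : X.M} (he : Special X m e)
    (he0 : cc X.B (m - 1) e = 0) : Even (mult D m) := by
  classical
  obtain ⟨N, hN⟩ := exists_period X
  have hfm := monic_X_sub_C (1 : F)
  have hfi := irreducible_X_sub_C (1 : F)
  have hnd : Nondeg (pull X.B (cyc x hx)) := nondeg_cyclic X.inv hN hfi hx 1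
    (by rw [one_smul]; exact fun h => one_ne_zero (hx1.symm.trans h))
  haveI := finite_blk (m := m) hfm
  obtain ⟨Y, Φ, hΦ0, hΦ⟩ := exists_split X (cyc x hx) hnd
  obtain ⟨D', hD', hY⟩ := data_split hX (hasData_blk hfm hfi m) Φ hm
    (fun x hx => by rw [Multiset.mem_singleton.1 hx]; exact ⟨hfm, hfi, rfl⟩) hmax
  obtain ⟨e', he', he'1⟩ := comp_other Φ hΦ0 hΦ hm hx1 he he0
  have hodd := odd_of_special IH (D₁ := D') (by rw [hD', Multiset.card_add]; omega)
    (fun x hx => hD' ▸ Multiset.mem_add.2 (Or.inr hx)) hY hm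
    (fun x hx => hmax x (hD' ▸ Multiset.mem_add.2 (Or.inr hx))) he' he'1
  rw [hD', mult_add, mult_singleton, if_pos rfl]
  exact Odd.add_odd odd_one hodd

end parity

/-- the label of a complement -/
lemma lab_comp {X Y : SObj F} {S S' : Finset ℕ} {N' : Type u} [AddCommGroup N'] [Module F N'] [Module F[X] N']
    [IsScalarTower F F[X] N'] {φ : N' →ₗ[F[X]] X.M} (Φ : (N' × Y.M) ≃ₗ[F[X]] X.M)
    (hΦ : ∀ a b, X.B (Φ a) (Φ b) = pull X.B φ a.1 b.1 + Y.B a.2 b.2) (hS : Lab X S) {m : ℕ}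
    (h0 : ∀ s, s ≠ m → ∀ p : N', ee F ^ s • p = 0 → cc (pull X.B φ) (s - 1) p = 0)
    (hne : ∀ s, s ≠ m → (s ∈ S' ↔ s ∈ S)) (hm : m ∈ S' ↔ Eps Y m) : Lab Y S' := by
  intro s
  by_cases h : s = m
  · rw [h]; exact hm
  · rw [hne s h, hS s, eps_iff Φ hΦ (h0 s h)]

section top

variable {m : ℕ} {D : Multiset (F[X] × ℕ)} {S : Finset ℕ} (hm : 1 ≤ m) (hmax : ∀ x ∈ D, x.2 ≤ m)
  (hmem : (ee F, m) ∈ D) (X₀ : SObj F) (hX₀ : HasData X₀.M D) (hS₀ : Lab X₀ S)
  (IH : ∀ (D' : Multiset (F[X] × ℕ)), D'.card < D.card → (∀ x ∈ D', x ∈ D) → ∀ (Y : SObj F) (T : Finset ℕ),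
    HasData Y.M D' → Lab Y T → Main D' T)

include hmax in
lemma mult_above {s : ℕ} (hs : m < s) : mult D s = 0 := mult_eq_zero fun h => by
  have := hmax _ h
  simp only at this
  omega

include hmax hX₀ hS₀ in
lemma S_le {s : ℕ} (h : s ∈ S) : s ≤ m := eps_le hX₀ hmax ((hS₀ s).1 h)

include hm hmax hmem hX₀ hS₀ IH

/-- top part `(X - 1, m)` with a non-zero quadratic value -/
theorem main_cyclic (hmS : m ∈ S) : Main D S := by
  classical
  obtain ⟨hev, hm2⟩ := eps_even ((hS₀ m).1 hmS)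
  have hfm := monic_X_sub_C (1 : F)
  have hfi := irreducible_X_sub_C (1 : F)
  have hE : ∀ x ∈ ({(ee F, m)} : Multiset (F[X] × ℕ)), x.1.Monic ∧ Irreducible x.1 ∧ x.2 = m := fun x hx => by
    rw [Multiset.mem_singleton.1 hx]; exact ⟨hfm, hfi, rfl⟩
  have hgE : Good ({(ee F, m)} : Multiset (F[X] × ℕ)) :=
    good_of_parts (m := m) (fun x hx => by rw [Multiset.mem_singleton.1 hx])
      (by rw [Multiset.map_singleton, Multiset.prod_singleton]; exact X_sub_C_SR (mul_one 1))
      (fun ho => absurd hev (Nat.not_even_iff_odd.2 ho))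
  have IH' : ∀ (D' : Multiset (F[X] × ℕ)), D'.card < D.card → D = ({(ee F, m)} : Multiset (F[X] × ℕ)) + D' →
      ∀ (Y : SObj F) (T : Finset ℕ), HasData Y.M D' → Lab Y T → Main D' T := fun D' hc he =>
    IH D' hc fun x hx => he ▸ Multiset.mem_add.2 (Or.inr hx)
  -- the chosen generators
  have hsel : ∀ X : SObj F, HasData X.M D → Lab X S → ∃ (x : X.M) (hx : ee F ^ m • x = 0),
      cc X.B (m - 1) x = 1 ∧
      ((4 ≤ m ∧ (m - 2 ∈ S ∨ (ee F, m - 1) ∈ D ∨ Even (mult D m))) → cc X.B (m - 3) x = 0) ∧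
      ∀ (Y : SObj F) (Φ : (blk₁ F m × Y.M) ≃ₗ[F[X]] X.M), (∀ a, Φ (a, 0) = cyc x hx a) →
        (∀ a b, X.B (Φ a) (Φ b) = pull X.B (cyc x hx) a.1 b.1 + Y.B a.2 b.2) →
        (Odd (mult D m) → ¬ Eps Y m) ∧ (Even (mult D m) → Eps Y m) := by
    intro X hX hS
    obtain ⟨N, hN⟩ := exists_period X
    obtain ⟨e, he⟩ := exists_special hX hm hmax
    obtain ⟨z, hz, hcz⟩ := (hS m).1 hmS
    obtain ⟨r, hr⟩ := exists_sqrt (cc X.B (m - 1) z)⁻¹
    have hx₀ : ee F ^ m • (r • z) = 0 := by rw [smul_comm, hz, smul_zero]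
    have hx₀1 : cc X.B (m - 1) (r • z) = 1 := by rw [cc_smul X.inv hN, hr, inv_mul_cancel₀ hcz]
    rcases he.cases with he0 | he1
    · have hpar := even_of_special IH hX hm hmax hx₀ hx₀1 he he0
      have hy : X.B (ee F ^ (m - 1) • e) (r • z) = 1 := by
        rw [← symE X.inv hN (by rw [Nat.sub_add_cancel hm]; exact he.1)]
        exact sq_inj (by rw [he.2 _ hx₀, hx₀1, mul_one])
      obtain ⟨x, hx, hx1, hx3⟩ : ∃ x, ee F ^ m • x = 0 ∧ cc X.B (m - 1) x = 1 ∧ (4 ≤ m → cc X.B (m - 3) x = 0) := by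
        by_cases h4 : 4 ≤ m
        · obtain ⟨x, h1, h2, h3, -⟩ := exists_kill hX hm hmax hev h4 hx₀ hx₀1
            (Or.inr (Or.inr ⟨r • z + e, by rw [smul_add, hx₀, he.1, add_zero], by
              rw [cc_add_of X.inv hN (by rw [Nat.sub_add_cancel hm]; exact he.1), hx₀1, he0, add_zero], by
              rw [smul_add, map_add, LinearMap.add_apply, hy]
              show cc X.B (m - 1) (r • z) + 1 = 0
              rw [hx₀1, CharTwo.add_self_eq_zero]⟩))
          exact ⟨x, h1, h2, fun _ => h3⟩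
        · exact ⟨r • z, hx₀, hx₀1, fun h => absurd h h4⟩
      refine ⟨x, hx, hx1, fun h => hx3 h.1, fun Y Φ h0 hΦ => ⟨fun ho => absurd hpar (Nat.not_even_iff_odd.2 ho),
        fun _ => ?_⟩⟩
      obtain ⟨e', he', he'1⟩ := comp_other Φ h0 hΦ hm hx1 he he0
      exact ⟨e', he'.1, by rw [he'1]; exact one_ne_zero⟩
    · have hpar := odd_of_special IH le_rfl (fun x hx => hx) hX hm hmax he he1
      obtain ⟨x, hx, hx1, hx3⟩ : ∃ x, Special X m x ∧ cc X.B (m - 1) x = 1 ∧
          ((4 ≤ m ∧ (m - 2 ∈ S ∨ (ee F, m - 1) ∈ D ∨ Even (mult D m))) → cc X.B (m - 3) x = 0) := by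
        by_cases h4 : 4 ≤ m ∧ (m - 2 ∈ S ∨ (ee F, m - 1) ∈ D)
        · obtain ⟨x, h1, h2, h3, h4'⟩ := exists_kill hX hm hmax hev h4.1 he.1 he1 (by
            rcases h4.2 with h | h
            · exact Or.inl ((hS _).1 h)
            · exact Or.inr (Or.inl h))
          exact ⟨x, ⟨h1, fun t ht => by rw [h4' t ht]; exact he.2 t ht⟩, h2, fun _ => h3⟩
        · refine ⟨e, he, he1, fun h => ?_⟩
          rcases h.2 with h' | h' | h'
          · exact absurd ⟨h.1, Or.inl h'⟩ h4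
          · exact absurd ⟨h.1, Or.inr h'⟩ h4
          · exact absurd hpar (Nat.not_odd_iff_even.2 h')
      exact ⟨x, hx.1, hx1, hx3, fun Y Φ h0 hΦ => ⟨fun _ => comp_special Φ h0 hΦ hx,
        fun he' => absurd hpar (Nat.not_odd_iff_even.2 he')⟩⟩
  set S' : Finset ℕ := if Even (mult D m) then S else S.erase m with hS'
  have hne : ∀ s, s ≠ m → (s ∈ S' ↔ s ∈ S) := fun s hs => by
    rw [hS']; split_ifs <;> simp [hs]
  have hsub : S' ⊆ S := by rw [hS']; split_ifs <;> simp [Finset.erase_subset]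
  have hmult : ∀ D' : Multiset (F[X] × ℕ), D = ({(ee F, m)} : Multiset (F[X] × ℕ)) + D' →
      ∀ s, mult D s = (if s = m then 1 else 0) + mult D' s := fun D' he s => by
    rw [he, mult_add, mult_singleton]
    by_cases h : s = m
    · subst h; simp
    · simp [h, Ne.symm h]
  have hC : ∀ D', D = ({(ee F, m)} : Multiset (F[X] × ℕ)) + D' → Compat D' S' → Compat D S := by
    intro D' he h s
    by_cases hs : s = m
    · subst hs
      exact ⟨fun _ => mult_pos.2 hmem, fun hn => absurd hmS hn⟩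
    · rw [hmult D' he, if_neg hs, zero_add, ← hne s hs]
      exact h s
  have hdown : ∀ D', D = ({(ee F, m)} : Multiset (F[X] × ℕ)) + D' →
      ∀ s, bit (mult D') S' s → bit (mult D) S s := fun D' he s => by
    refine bit_down (m := m) (fun s hs => ?_) (fun s => ?_) (fun s hs => mult_above hmax hs)
      (fun s hs => S_le hmax X₀ hX₀ hS₀ hs) hne hsub
    · rw [hmult D' he, if_neg hs, zero_add]
    · rw [hmult D' he]; exact Nat.le_add_left _ _
  have hlab : ∀ X : SObj F, Lab X S → ∀ (x : X.M) (hx : ee F ^ m • x = 0) (Y : SObj F)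
      (Φ : (blk₁ F m × Y.M) ≃ₗ[F[X]] X.M),
      (∀ a b, X.B (Φ a) (Φ b) = pull X.B (cyc x hx) a.1 b.1 + Y.B a.2 b.2) →
      ((Odd (mult D m) → ¬ Eps Y m) ∧ (Even (mult D m) → Eps Y m)) → Nondeg (pull X.B (cyc x hx)) →
      Lab Y S' := by
    intro X hS x hx Y Φ hΦ h hnd
    obtain ⟨N, hN⟩ := exists_period X
    refine lab_comp Φ hΦ hS (m := m) (fun s hs p hp => cc_small (X.inv.pull _)
      (Period.of_injective (injective_of_nondeg hnd) hN) kill₁ (fun t ht q hq => div₁ ht hq) hs hp) hne ?_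
    rw [hS']
    split_ifs with he
    · exact iff_of_true hmS (h.2 he)
    · exact iff_of_false (Finset.notMem_erase m S) (h.1 (Nat.not_even_iff_odd.1 he))
  by_cases htwo : 4 ≤ m ∧ ¬ (m - 2 ∈ S ∨ (ee F, m - 1) ∈ D ∨ Even (mult D m))
  · -- two forms
    refine step (S' := S') (N' := blk₁ F m) (E := {(ee F, m)}) (hasData_blk hfm hfi m) hm (by simp) hE hgE hmax
      X₀ hX₀ hS₀ IH' Bool (fun D' he _ => ?_) hC (fun B c => CycCol B c) (fun X hX hS => ?_)
      (fun c B₁ B₂ N hN h₁ h₂ _ _ c₁ c₂ => iso_cyc hev hm2 h₁ h₂ hN c₁ c₂)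
    · rw [Fintype.card_bool]
      refine W_two (hdown D' he) (m := m) (Or.inl ⟨hmS, htwo.1, fun h => htwo.2 (Or.inl h),
        mult_eq_zero fun h => htwo.2 (Or.inr (Or.inl h))⟩) ?_
      rintro (⟨h, -⟩ | ⟨h, -⟩)
      · rw [hS', if_neg fun h => htwo.2 (Or.inr (Or.inr h))] at h
        exact Finset.notMem_erase m S h
      · exact Nat.not_even_iff_odd.2 h hev
    · obtain ⟨N, hN⟩ := exists_period X
      obtain ⟨x, hx, hx1, -, hY⟩ := hsel X hX hS
      have hnd : Nondeg (pull X.B (cyc x hx)) := nondeg_cyclic X.inv hN hfi hx 1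
        (by rw [one_smul]; exact fun h => one_ne_zero (hx1.symm.trans h))
      refine ⟨!decide (Wp (cc X.B (m - 3) x)), cyc x hx, hnd, ⟨?_, fun _ => ?_⟩,
        fun Y Φ h0 hΦ => hlab X hS x hx Y Φ hΦ (hY Y Φ h0 hΦ) hnd⟩
      · rw [cc, pull_apply, map_smul (cyc x hx), g₁, cyc_one]; exact hx1
      · rw [show cc (pull X.B (cyc x hx)) (m - 3) (g₁ F m) = cc X.B (m - 3) x by
          rw [cc, pull_apply, map_smul (cyc x hx), g₁, cyc_one]; rfl]
        simp
  · refine step (S' := S') (N' := blk₁ F m) (E := {(ee F, m)}) (hasData_blk hfm hfi m) hm (by simp) hE hgE hmax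
      X₀ hX₀ hS₀ IH' Unit (fun D' he _ => by rw [Fintype.card_unit, one_mul]; exact W_mono (hdown D' he)) hC
      (fun B _ => CycCol B false) (fun X hX hS => ?_)
      (fun c B₁ B₂ N hN h₁ h₂ _ _ c₁ c₂ => iso_cyc hev hm2 h₁ h₂ hN c₁ c₂)
    obtain ⟨N, hN⟩ := exists_period X
    obtain ⟨x, hx, hx1, hx3, hY⟩ := hsel X hX hS
    have hnd : Nondeg (pull X.B (cyc x hx)) := nondeg_cyclic X.inv hN hfi hx 1
      (by rw [one_smul]; exact fun h => one_ne_zero (hx1.symm.trans h))
    refine ⟨(), cyc x hx, hnd, ⟨?_, fun h4 => ?_⟩, fun Y Φ h0 hΦ => hlab X hS x hx Y Φ hΦ (hY Y Φ h0 hΦ) hnd⟩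
    · rw [cc, pull_apply, map_smul (cyc x hx), g₁, cyc_one]; exact hx1
    · refine iff_of_true rfl ⟨0, ?_⟩
      rw [cc, pull_apply, map_smul (cyc x hx), g₁, cyc_one, mul_zero, add_zero]
      exact (hx3 ⟨h4, not_not.1 fun h => htwo ⟨h4, h⟩⟩).symm

/-- top part `(X - 1, m)` without quadratic value -/
theorem main_pair (hmS : m ∉ S) : Main D S := by
  classical
  have hfm := monic_X_sub_C (1 : F)
  have hfi := irreducible_X_sub_C (1 : F)
  set E : Multiset (F[X] × ℕ) := {(ee F, m)} + {(ee F, m)} with hEdef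
  have hE : ∀ x ∈ E, x.1.Monic ∧ Irreducible x.1 ∧ x.2 = m := fun x hx => by
    simp only [hEdef, Multiset.mem_add, Multiset.mem_singleton, or_self] at hx
    subst hx
    exact ⟨hfm, hfi, rfl⟩
  have hgE : Good E := by
    refine good_of_parts (m := m) (fun x hx => (hE x hx).2.2) ?_ fun _ => ?_
    all_goals simp only [hEdef, Multiset.map_add, Multiset.map_singleton, Multiset.prod_add, Multiset.prod_singleton]
    · exact (X_sub_C_SR (mul_one 1)).mul (X_sub_C_SR (mul_one 1))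
    · rw [mul_coeff_zero, (X_sub_C_SR (mul_one 1)).sq_const, hfm.natDegree_mul hfm]
      exact ⟨Even.add_self _, rfl⟩
  have IH' : ∀ (D' : Multiset (F[X] × ℕ)), D'.card < D.card → D = E + D' →
      ∀ (Y : SObj F) (T : Finset ℕ), HasData Y.M D' → Lab Y T → Main D' T := fun D' hc he =>
    IH D' hc fun x hx => he ▸ Multiset.mem_add.2 (Or.inr hx)
  have hmult : ∀ D', D = E + D' → ∀ s, mult D s = (if s = m then 2 else 0) + mult D' s := fun D' he s => by
    rw [he, hEdef, mult_add, mult_add, mult_singleton]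
    by_cases h : s = m
    · subst h; simp
    · simp [h, Ne.symm h]
  have hC : ∀ D', D = E + D' → Compat D' S → Compat D S := by
    intro D' he h s
    by_cases hs : s = m
    · subst hs
      exact ⟨fun hn => absurd hn hmS, fun _ => by rw [hmult D' he, if_pos rfl]; exact even_two.add ((h _).2 hmS)⟩
    · rw [hmult D' he, if_neg hs, zero_add]
      exact h s
  have hdown : ∀ D', D = E + D' → ∀ s, bit (mult D') S s → bit (mult D) S s := fun D' he s => by
    refine bit_down (m := m) (fun s hs => ?_) (fun s => ?_) (fun s hs => mult_above hmax hs)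
      (fun s hs => S_le hmax X₀ hX₀ hS₀ hs) (fun _ _ => Iff.rfl) (Finset.Subset.refl S)
    · rw [hmult D' he, if_neg hs, zero_add]
    · rw [hmult D' he]; exact Nat.le_add_left _ _
  have hpair : ∀ (X : SObj F), HasData X.M D → Lab X S → ∀ (u w : X.M) (hu : ee F ^ m • u = 0)
      (hw : ee F ^ m • w = 0), X.B (ee F ^ (m - 1) • u) w = 1 → ∀ (τ : F) (c : Bool),
      (Odd m → 3 ≤ m → cc X.B (m - 2) u = (if c then 1 else 0) ∧ cc X.B (m - 2) w = (if c then τ else 0)) →
      Nondeg (pull X.B ((cyc u hu).coprod (cyc w hw))) ∧ PairCol τ (pull X.B ((cyc u hu).coprod (cyc w hw))) c ∧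
      ∀ (Y : SObj F) (Φ : (blk₂ F m × Y.M) ≃ₗ[F[X]] X.M), (∀ a, Φ (a, 0) = (cyc u hu).coprod (cyc w hw) a) →
        (∀ a b, X.B (Φ a) (Φ b) = pull X.B ((cyc u hu).coprod (cyc w hw)) a.1 b.1 + Y.B a.2 b.2) → Lab Y S := by
    intro X hX hS u w hu hw hx τ c hc
    obtain ⟨N, hN⟩ := exists_period X
    have hz : ∀ t : X.M, ee F ^ m • t = 0 → cc X.B (m - 1) t = 0 := fun t ht => by
      by_contra hne
      exact hmS ((hS m).2 ⟨t, ht, hne⟩)
    have hnd := nondeg_pair X.inv hN hm hu hw hx (hz u hu) (hz w hw)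
    set φ := (cyc u hu).coprod (cyc w hw) with hφ
    have e1 : φ (gu F m) = u := by rw [hφ, gu, LinearMap.coprod_apply, cyc_one, map_zero, add_zero]
    have e2 : φ (gw F m) = w := by rw [hφ, gw, LinearMap.coprod_apply, cyc_one, map_zero, zero_add]
    refine ⟨hnd, ?_, fun Y Φ h0 hΦ => ?_⟩
    · simp only [PairCol, cc, pull_apply, map_smul φ, e1, e2]
      exact ⟨hx, hz u hu, hz w hw, hc⟩
    · refine lab_comp Φ hΦ hS (m := m) (fun s hs p hp => cc_small (X.inv.pull _)
        (Period.of_injective (injective_of_nondeg hnd) hN) kill₂ (fun t ht q hq => div₂ ht hq) hs hp)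
        (fun _ _ => Iff.rfl) (iff_of_false hmS fun h => hmS ((hS m).2 (eps_up Φ hΦ h)))
  obtain ⟨τ, -, hτ⟩ := exists_tau (F := F)
  by_cases htwo : Odd m ∧ 3 ≤ m ∧ m - 1 ∉ S ∧ mult D m = 2
  · obtain ⟨hodd, hm3, hS1, htwo⟩ := htwo
    refine step (S' := S) (N' := blk₂ F m) (E := E) ((hasData_blk hfm hfi m).prod (hasData_blk hfm hfi m)) hm
      (by simp [hEdef]) hE hgE hmax X₀ hX₀ hS₀ IH' Bool (fun D' he _ => ?_) hC (fun B c => PairCol τ B c)
      (fun X hX hS => ?_) (fun c B₁ B₂ N hN h₁ h₂ _ _ c₁ c₂ => iso_pair hm h₁ h₂ hN c₁ c₂)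
    · rw [Fintype.card_bool]
      refine W_two (hdown D' he) (m := m) (Or.inr ⟨hodd, hm3, by omega, hS1⟩) ?_
      rintro (⟨h, -⟩ | ⟨-, -, h, -⟩)
      · exact hmS h
      · have := hmult D' he m
        rw [if_pos rfl] at this
        omega
    · obtain ⟨c, u, w, hu, hw, hx, hcu, hcw, -⟩ := exists_pair_odd hX hm hmax hmem hodd hm3 τ hτ
      obtain ⟨hnd, hcol, hlab⟩ := hpair X hX hS u w hu hw hx τ c (fun _ _ => ⟨hcu, hcw⟩)
      exact ⟨c, _, hnd, hcol, hlab⟩
  · refine step (S' := S) (N' := blk₂ F m) (E := E) ((hasData_blk hfm hfi m).prod (hasData_blk hfm hfi m)) hm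
      (by simp [hEdef]) hE hgE hmax X₀ hX₀ hS₀ IH' Unit
      (fun D' he _ => by rw [Fintype.card_unit, one_mul]; exact W_mono (hdown D' he)) hC
      (fun B _ => PairCol τ B false)
      (fun X hX hS => ?_) (fun c B₁ B₂ N hN h₁ h₂ _ _ c₁ c₂ => iso_pair hm h₁ h₂ hN c₁ c₂)
    obtain ⟨N, hN⟩ := exists_period X
    obtain ⟨u, w, hu, hw, hx, hcond⟩ : ∃ u w : X.M, ee F ^ m • u = 0 ∧ ee F ^ m • w = 0 ∧
        X.B (ee F ^ (m - 1) • u) w = 1 ∧ (Odd m → 3 ≤ m → cc X.B (m - 2) u = 0 ∧ cc X.B (m - 2) w = 0) := by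
      by_cases hodd : Odd m ∧ 3 ≤ m
      swap
      · obtain ⟨u, w, hu, hw, hx, -, -⟩ := exists_pair hX hm hmax hmem fun _ h => hmS ((hS m).2 h)
        exact ⟨u, w, hu, hw, hx, fun h h' => absurd ⟨h, h'⟩ hodd⟩
      obtain ⟨hodd, hm3⟩ := hodd
      obtain ⟨c, u, w, hu, hw, hx, hcu, hcw, hc⟩ := exists_pair_odd hX hm hmax hmem hodd hm3 τ hτ
      cases c with
      | false => exact ⟨u, w, hu, hw, hx, fun _ _ => ⟨by simpa using hcu, by simpa using hcw⟩⟩
      | true =>
        exfalso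
        have hall := hc rfl
        have ho2 : Odd (m - 2) := by obtain ⟨a, rfl⟩ := hodd; exact ⟨a - 1, by omega⟩
        have key : ∀ z : X.M, ee F ^ m • z = 0 → cc X.B (m - 2) z ≠ 0 → X.B (ee F ^ (m - 1) • z) u = 0 →
            X.B (ee F ^ (m - 1) • z) w = 0 → False := by
          intro z hz hcz hzu hzw
          obtain ⟨l, hl⟩ := exists_sqrt (cc X.B (m - 2) u * (cc X.B (m - 2) z)⁻¹)
          refine hall (u + l • z) (by rw [smul_add, hu, smul_comm, hz, smul_zero, add_zero]) (fun h => ?_) ?_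
          · have h1 : X.B (ee F ^ (m - 1) • (u + l • z)) w = 1 := by
              rw [smul_add, map_add, LinearMap.add_apply, hx, smul_comm, smul_left', hzw, mul_zero, add_zero]
            rw [h, map_zero, LinearMap.zero_apply] at h1
            exact zero_ne_one h1
          · rw [cc_add_odd X.inv hN ho2 (by rw [smul_comm, show m - 2 + 2 = m by omega, hz, smul_zero]),
              cc_smul X.inv hN, show m - 2 + 1 = m - 1 by omega, smul_comm, smul_left', hzu, mul_zero, add_zero, hl,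
              mul_assoc, inv_mul_cancel₀ hcz, mul_one, CharTwo.add_self_eq_zero]
        by_cases hS1 : m - 1 ∈ S
        · obtain ⟨z, hz, hcz⟩ := (hS _).1 hS1
          rw [show m - 1 - 1 = m - 2 by omega] at hcz
          exact key z (by rw [show m = 1 + (m - 1) by omega, pow_add, ← smul_smul, hz, smul_zero]) hcz
            (by rw [hz, map_zero, LinearMap.zero_apply]) (by rw [hz, map_zero, LinearMap.zero_apply])
        obtain ⟨hnd, -, hlab⟩ := hpair X hX hS u w hu hw hx τ true (fun _ _ => ⟨hcu, hcw⟩)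
        haveI := finite_blk (m := m) hfm
        obtain ⟨Y, Φ, hΦ0, hΦ⟩ := exists_split X _ hnd
        obtain ⟨D', hD', hY⟩ := data_split hX ((hasData_blk hfm hfi m).prod (hasData_blk hfm hfi m)) Φ hm hE hmax
        have hpos : 0 < mult D' m := by
          have h1 := hmult D' hD' m
          rw [if_pos rfl] at h1
          have : mult D m ≠ 2 := fun h => htwo ⟨hodd, hm3, hS1, h⟩
          omega
        obtain ⟨y, hy, hy'⟩ := exists_top hY hfm hfi hm (mult_pos.1 hpos)
        have hz : ee F ^ m • Φ (0, y) = 0 := by rw [← map_smul, Prod.smul_mk, hy, smul_zero, ← Prod.zero_eq_mk, map_zero]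
        have hzo : ∀ p, X.B (ee F ^ (m - 1) • Φ (0, y)) (Φ (p, 0)) = 0 := fun p => by
          rw [← map_smul, hΦ]; simp
        refine key _ hz (hall _ hz fun h => hy' ?_) ?_ ?_
        · rw [← map_smul, LinearEquiv.map_eq_zero_iff, Prod.smul_mk, Prod.mk_eq_zero] at h
          exact h.2
        · have := hzo (gu F m)
          rwa [hΦ0, gu, LinearMap.coprod_apply, cyc_one, map_zero, add_zero] at this
        · have := hzo (gw F m)
          rwa [hΦ0, gw, LinearMap.coprod_apply, cyc_one, map_zero, zero_add] at this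
    obtain ⟨hnd, hcol, hlab⟩ := hpair X hX hS u w hu hw hx τ false (fun h h' => by simpa using hcond h h')
    exact ⟨(), _, hnd, hcol, hlab⟩

end top

lemma compat_congr {D D' : Multiset (F[X] × ℕ)} {S : Finset ℕ} (h : ∀ s, mult D s = mult D' s) (hC : Compat D' S) :
    Compat D S := fun s => by rw [h]; exact hC s

/-- classification bound -/
theorem classify : ∀ (n : ℕ) (D : Multiset (F[X] × ℕ)), D.card = n →
    (∀ x ∈ D, x.1.Monic ∧ Irreducible x.1 ∧ 1 ≤ x.2) →
    ∀ (X₀ : SObj F) (S : Finset ℕ), HasData X₀.M D → Lab X₀ S → Main D S := by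
  intro n
  induction n using Nat.strong_induction_on with
  | _ n ih =>
  intro D hn hD X₀ S hX₀ hS₀
  classical
  haveI := Fintype.ofFinite F
  rcases Multiset.empty_or_exists_mem D with rfl | hne
  · exact main_zero X₀ hX₀ hS₀
  obtain ⟨⟨g, m⟩, hmem, hmax⟩ := Finset.exists_max_image D.toFinset Prod.snd
    (by obtain ⟨x, hx⟩ := hne; exact ⟨x, Multiset.mem_toFinset.2 hx⟩)
  rw [Multiset.mem_toFinset] at hmem
  replace hmax : ∀ x ∈ D, x.2 ≤ m := fun x hx => hmax x (Multiset.mem_toFinset.2 hx)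
  have hm : 1 ≤ m := (hD _ hmem).2.2
  have IH : ∀ (D' : Multiset (F[X] × ℕ)), D'.card < D.card → (∀ x ∈ D', x ∈ D) → ∀ (Y : SObj F) (T : Finset ℕ),
      HasData Y.M D' → Lab Y T → Main D' T := fun D' hc hsub Y T hY hT =>
    ih D'.card (hn ▸ hc) D' rfl (fun x hx => hD x (hsub x hx)) Y T hY hT
  by_cases hother : ∃ f, (f, m) ∈ D ∧ f ≠ ee F
  swap
  · push Not at hother
    obtain rfl := hother g hmem
    by_cases hmS : m ∈ S
    · exact main_cyclic hm hmax hmem X₀ hX₀ hS₀ IH hmS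
    · exact main_pair hm hmax hmem X₀ hX₀ hS₀ IH hmS
  obtain ⟨f, hf, hfne⟩ := hother
  obtain ⟨hfm, hfi, -⟩ : f.Monic ∧ Irreducible f ∧ 1 ≤ m := hD _ hf
  obtain ⟨N₀, hN₀⟩ := exists_period X₀
  have h0 : f.coeff 0 ≠ 0 := by
    intro h0
    obtain ⟨u, hu, hu'⟩ := exists_top hX₀ hfm hfi hm hf
    have hX : f = Polynomial.X := eq_of_monic_of_associated hfm monic_X
      (irreducible_X.associated_of_dvd hfi (X_dvd_iff.2 h0)).symm
    refine hu' ?_
    rw [hX] at hu ⊢
    have hN1 := hN₀.1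
    calc (Polynomial.X : F[X]) ^ (m - 1) • u = (Polynomial.X : F[X]) ^ (N₀ - 1) • ((Polynomial.X : F[X]) ^ m • u) := by
          rw [smul_smul, ← pow_add]
          exact (hN₀.mod (k := 1) (by omega) u).symm
      _ = 0 := by rw [hu, smul_zero]
  have hpartner : ∀ X : SObj F, HasData X.M D → ∀ N, Period F X.M N → ∃ u w : X.M, f ^ m • u = 0 ∧
      du f ^ m • w = 0 ∧ X.B (f ^ (m - 1) • u) w ≠ 0 := by
    intro X hX N hN
    obtain ⟨u, hu, hu'⟩ := exists_top hX hfm hfi hm hf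
    obtain ⟨w, hw, huw⟩ := exists_partner X.inv hN X.nd hu hu' (fun x hx =>
      data_max_stable hX (du_monic h0) (du_irreducible hfm h0 hfi) hmax x hx)
    exact ⟨u, w, hu, hw, huw⟩
  have hdne : du f ≠ ee F := fun h => hfne (by rw [← du_du hfm h0, h, du_ee])
  by_cases hdu : du f = f
  swap
  · have hdm := du_monic h0
    have hdi := du_irreducible hfm h0 hfi
    have hE : ∀ x ∈ ({(f, m)} + {(du f, m)} : Multiset (F[X] × ℕ)), x.1.Monic ∧ Irreducible x.1 ∧ x.2 = m := by
      intro x hx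
      simp only [Multiset.mem_add, Multiset.mem_singleton] at hx
      rcases hx with rfl | rfl
      · exact ⟨hfm, hfi, rfl⟩
      · exact ⟨hdm, hdi, rfl⟩
    have hmult : ∀ D', D = ({(f, m)} + {(du f, m)} : Multiset (F[X] × ℕ)) + D' → ∀ s, mult D s = mult D' s := by
      intro D' he s
      rw [he, mult_add, mult_add, mult_singleton, mult_singleton, if_neg (by simp [hfne]), if_neg (by simp [hdne]),
        zero_add, zero_add]
    refine step (S' := S) (N' := blk (f, m) × blk (du f, m)) (E := {(f, m)} + {(du f, m)})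
      ((hasData_blk hfm hfi m).prod (hasData_blk hdm hdi m)) hm (by simp) hE ?_ hmax X₀ hX₀ hS₀
      (fun D' hc he => IH D' hc fun x hx => he ▸ Multiset.mem_add.2 (Or.inr hx))
      Unit (fun D' he _ => ?_) (fun D' he h => compat_congr (hmult D' he) h)
      (fun _ _ => True) (fun X hX hS => ?_)
      (fun _ B₁ B₂ N hN h₁ h₂ hn₁ _ _ _ => iso_pair_ne hfm h0 hfi hdu h₁ h₂ hn₁ hN)
    · refine good_of_parts (m := m) (fun x hx => (hE x hx).2.2) ?_ fun _ => ?_
      all_goals simp only [Multiset.map_add, Multiset.map_singleton, Multiset.prod_add, Multiset.prod_singleton]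
      · exact (SR_pair hfm h0).1
      · obtain ⟨-, h2', h3⟩ := SR_pair hfm h0
        exact ⟨⟨f.natDegree, by rw [h2']; omega⟩, h3⟩
    · rw [Fintype.card_unit, one_mul]
      exact W_mono fun s h => by rwa [show mult D = mult D' from funext (hmult D' he)]
    · obtain ⟨N, hN⟩ := exists_period X
      obtain ⟨u, w, hu, hw, huw⟩ := hpartner X hX N hN
      refine ⟨(), _, nondeg_pair_ne X.inv hN hfm h0 hfi hdu hu hw huw, trivial, fun Y Φ _ hΦ s => ?_⟩
      rw [hS s, eps_iff Φ hΦ]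
      intro p hp
      rw [show p = 0 from Prod.ext (zero_of_other hfm hfi hfne (congrArg Prod.fst hp))
        (zero_of_other hdm hdi hdne (congrArg Prod.snd hp))]
      simp [cc]
  have hE : ∀ x ∈ ({(f, m)} : Multiset (F[X] × ℕ)), x.1.Monic ∧ Irreducible x.1 ∧ x.2 = m := fun x hx => by
    rw [Multiset.mem_singleton.1 hx]; exact ⟨hfm, hfi, rfl⟩
  have hmult : ∀ D', D = ({(f, m)} : Multiset (F[X] × ℕ)) + D' → ∀ s, mult D s = mult D' s := by
    intro D' he s
    rw [he, mult_add, mult_singleton, if_neg (by simp [hfne]), zero_add]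
  have hSR := SR_iff_du hfm h0 hdu
  refine step (S' := S) (N' := blk (f, m)) (E := {(f, m)}) (hasData_blk hfm hfi m) hm (by simp) hE
    (good_of_parts (m := m) (fun x hx => (hE x hx).2.2)
      (by rw [Multiset.map_singleton, Multiset.prod_singleton]; exact hSR)
      (fun _ => by
        rw [Multiset.map_singleton, Multiset.prod_singleton]
        refine ⟨?_, ?_⟩
        · by_contra h
          exact eval_one_ne hfm hfi hfne (eval_one_of_odd hSR (Nat.not_even_iff_odd.1 h))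
        · rcases hSR.const_cases with h | h
          · exact h
          · rwa [CharTwo.neg_eq] at h))
    hmax X₀ hX₀ hS₀ (fun D' hc he => IH D' hc fun x hx => he ▸ Multiset.mem_add.2 (Or.inr hx))
    Unit (fun D' he _ => ?_) (fun D' he h => compat_congr (hmult D' he) h) (fun _ _ => True) (fun X hX hS => ?_)
    (fun _ B₁ B₂ N hN h₁ h₂ hn₁ hn₂ _ _ => iso_cyclic_gen hfm h0 hfi hdu (other_not_dvd hfm hfi hfne) h₁ h₂ hn₁ hn₂ hN)
  · rw [Fintype.card_unit, one_mul]
    exact W_mono fun s h => by rwa [show mult D = mult D' from funext (hmult D' he)]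
  · obtain ⟨N, hN⟩ := exists_period X
    obtain ⟨u, w, hu, hw, huw⟩ := hpartner X hX N hN
    rw [hdu] at hw
    obtain ⟨u', hu', r, hr⟩ := exists_cyclic_other X.inv hN hfm hfi hdu hfne hm hu hw huw
    refine ⟨(), cyc u' hu', nondeg_cyclic X.inv hN hfi hu' r hr, trivial, fun Y Φ _ hΦ s => ?_⟩
    rw [hS s, eps_iff Φ hΦ]
    intro p hp
    rw [zero_of_other hfm hfi hfne hp]
    simp [cc]

end SpEvenCount2557
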