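import Mathlib

/-!
Numbers for the classes of `Sp(2n, q)`, `q` even: a linear recursion whose values stay below `76 / 5`.
-/

set_option autoImplicit false

namespace SpEvenCount2557

/-- the factor of the polynomials without the root one in a part of size `k`, at one half -/
def gk (k : ℕ) : ℚ := (1 - (1 / 2) ^ k) / (1 - (1 / 2) ^ (k - 1))

/-- part `2l`, even multiplicity of the root one -/
def a0 (l : ℕ) : ℚ := gk (2 * l) / (1 - (1 / 2) ^ (2 * l))

/-- part `2l`, positive multiplicity of the root one -/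
def a1 (l : ℕ) : ℚ := gk (2 * l) * ((1 / 2) ^ l / (1 - (1 / 2) ^ l))

/-- part `2l + 1`, no root one -/
def c0 (l : ℕ) : ℚ := gk (2 * l + 1)

/-- part `2l + 1`, positive multiplicity of the root one -/
def c1 (l : ℕ) : ℚ := gk (2 * l + 1) * ((1 / 2) ^ (2 * l + 1) / (1 - (1 / 2) ^ (2 * l + 1)))

/-- the pair of accumulated totals -/
def acc : ℕ → ℚ × ℚ
  | 0 => (0, 1)
  | L + 1 =>
    (a0 (L + 1) * c0 (L + 1) * ((acc L).1 + (acc L).2),
      2 * (a0 (L + 1) * c1 (L + 1) * ((acc L).1 + (acc L).2)) +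
        a1 (L + 1) * (c0 (L + 1) + c1 (L + 1)) * (2 * (acc L).1 + (acc L).2))

/-- the first total -/
def nn (L : ℕ) : ℚ := (acc L).1

/-- the second total -/
def yy (L : ℕ) : ℚ := (acc L).2

lemma nn_succ (L : ℕ) : nn (L + 1) = a0 (L + 1) * c0 (L + 1) * (nn L + yy L) := rfl

lemma yy_succ (L : ℕ) : yy (L + 1) = 2 * (a0 (L + 1) * c1 (L + 1) * (nn L + yy L)) +
    a1 (L + 1) * (c0 (L + 1) + c1 (L + 1)) * (2 * nn L + yy L) := rfl

lemma half_pow_lt {i : ℕ} (hi : i ≠ 0) : (1 / 2 : ℚ) ^ i < 1 := pow_lt_one₀ (by norm_num) (by norm_num) hi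

lemma gk_nonneg {k : ℕ} (hk : 2 ≤ k) : 0 ≤ gk k :=
  div_nonneg (by linarith [half_pow_lt (i := k) (by omega)]) (by linarith [half_pow_lt (i := k - 1) (by omega)])

lemma factors_nonneg {l : ℕ} (hl : 1 ≤ l) : 0 ≤ a0 l ∧ 0 ≤ a1 l ∧ 0 ≤ c0 l ∧ 0 ≤ c1 l := by
  have g1 := gk_nonneg (k := 2 * l) (by omega)
  have g2 := gk_nonneg (k := 2 * l + 1) (by omega)
  refine ⟨div_nonneg g1 ?_, mul_nonneg g1 (div_nonneg (by positivity) ?_), g2,
    mul_nonneg g2 (div_nonneg (by positivity) ?_)⟩ <;>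
  · first
      | linarith [half_pow_lt (i := 2 * l) (by omega)]
      | linarith [half_pow_lt (i := l) (by omega)]
      | linarith [half_pow_lt (i := 2 * l + 1) (by omega)]

lemma acc_nonneg : ∀ L, 0 ≤ nn L ∧ 0 ≤ yy L
  | 0 => by norm_num [nn, yy, acc]
  | L + 1 => by
    obtain ⟨h1, h2⟩ := acc_nonneg L
    obtain ⟨ha, hb, hc, hd⟩ := factors_nonneg (l := L + 1) (by omega)
    rw [nn_succ, yy_succ]
    constructor <;> positivity

/-- one numerical step -/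
lemma step_num {L : ℕ} {a b a' b' : ℚ} (h : nn L ≤ a ∧ yy L ≤ b)
    (h1 : a0 (L + 1) * c0 (L + 1) * (a + b) ≤ a')
    (h2 : 2 * (a0 (L + 1) * c1 (L + 1) * (a + b)) + a1 (L + 1) * (c0 (L + 1) + c1 (L + 1)) * (2 * a + b) ≤ b') :
    nn (L + 1) ≤ a' ∧ yy (L + 1) ≤ b' := by
  obtain ⟨ha, hb, hc, hd⟩ := factors_nonneg (l := L + 1) (by omega)
  obtain ⟨e1, e2⟩ := h
  obtain ⟨n1, n2⟩ := acc_nonneg L
  rw [nn_succ, yy_succ]
  constructor
  · refine le_trans ?_ h1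
    gcongr
  · refine le_trans ?_ h2
    gcongr

lemma gk_le {k : ℕ} (hk : 2 ≤ k) : gk k ≤ 1 + (1 / 2) ^ (k - 1) := by
  have h1 : (1 / 2 : ℚ) ^ (k - 1) ≤ 1 / 2 :=
    pow_le_of_le_one (by norm_num) (by norm_num) (by omega)
  have h2 : (1 / 2 : ℚ) ^ k = 1 / 2 * (1 / 2) ^ (k - 1) := by
    rw [← pow_succ', show k - 1 + 1 = k by omega]
  rw [gk, div_le_iff₀ (by linarith), h2]
  nlinarith [show (0 : ℚ) ≤ (1 / 2) ^ (k - 1) by positivity]

lemma frac_le {x : ℚ} (hx : 0 ≤ x) (hx' : x ≤ 1 / 2) : x / (1 - x) ≤ x * (1 + 2 * x) := by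
  rw [div_le_iff₀ (by linarith)]
  nlinarith [mul_nonneg hx hx]

/-- the tail: one step multiplies the total by at most `1 + 3 / 2 ^ (L + 1)` -/
lemma step_tail {L : ℕ} (hL : 14 ≤ L) :
    nn (L + 1) + yy (L + 1) ≤ (1 + 3 * (1 / 2) ^ (L + 1)) * (nn L + yy L) := by
  obtain ⟨n1, n2⟩ := acc_nonneg L
  obtain ⟨ha, hb, hc, hd⟩ := factors_nonneg (l := L + 1) (by omega)
  set x : ℚ := (1 / 2) ^ (L + 1) with hx
  have hx0 : 0 ≤ x := by positivity
  have hxs : x ≤ 1 / 1000 := by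
    refine (pow_le_pow_of_le_one (by norm_num) (by norm_num) (show 10 ≤ L + 1 by omega)).trans ?_
    norm_num
  have e2 : (1 / 2 : ℚ) ^ (2 * (L + 1)) = x * x := by rw [two_mul, pow_add]
  have g1 : gk (2 * (L + 1)) ≤ 1 + 2 * (x * x) := by
    refine (gk_le (by omega)).trans (le_of_eq ?_)
    rw [← e2, show 2 * (L + 1) = 2 * (L + 1) - 1 + 1 by omega, pow_succ, Nat.add_sub_cancel]
    ring
  have g2 : gk (2 * (L + 1) + 1) ≤ 1 + x * x := by
    refine (gk_le (by omega)).trans (le_of_eq ?_)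
    rw [Nat.add_sub_cancel, e2]
  have xx : x * x ≤ x / 1000 := by nlinarith
  have ta0 : a0 (L + 1) ≤ 1 + 5 * (x / 1000) := by
    rw [a0, e2, div_le_iff₀ (by nlinarith)]
    nlinarith
  have ta1 : a1 (L + 1) ≤ 1011 / 1000 * x := by
    rw [a1]
    refine (mul_le_mul g1 (frac_le hx0 (by linarith)) (div_nonneg hx0 (by linarith)) (by positivity)).trans ?_
    nlinarith [mul_nonneg hx0 hx0, mul_nonneg hx0 (mul_nonneg hx0 hx0)]
  have tc0 : c0 (L + 1) ≤ 1 + x / 1000 := g2.trans (by linarith)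
  have tc1 : c1 (L + 1) ≤ x / 1000 := by
    have e3 : (1 / 2 : ℚ) ^ (2 * (L + 1) + 1) = x * x / 2 := by rw [pow_succ, e2]; ring
    rw [c1, e3]
    refine (mul_le_mul g2 (frac_le (by positivity) (by nlinarith)) (div_nonneg (by positivity) (by nlinarith))
      (by positivity)).trans ?_
    have u1 : 1 + x * x ≤ 4 / 3 := by nlinarith
    have u2 : x * x / 2 * (1 + 2 * (x * x / 2)) ≤ 3 / 4 * (x / 1000) := by
      refine (mul_le_mul (show x * x / 2 ≤ x / 1000 / 2 by linarith) (show 1 + 2 * (x * x / 2) ≤ 3 / 2 by linarith)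
        (by positivity) (by positivity)).trans ?_
      linarith
    refine (mul_le_mul u1 u2 (by positivity) (by norm_num)).trans (le_of_eq ?_)
    ring
  rw [nn_succ, yy_succ]
  have h2 : 2 * nn L + yy L ≤ 2 * (nn L + yy L) := by linarith
  set T := nn L + yy L with hT
  have hT0 : 0 ≤ T := by linarith
  calc _ ≤ a0 (L + 1) * c0 (L + 1) * T + (2 * (a0 (L + 1) * c1 (L + 1) * T) +
        a1 (L + 1) * (c0 (L + 1) + c1 (L + 1)) * (2 * T)) := by gcongr
    _ ≤ (1 + 5 * (x / 1000)) * (1 + x / 1000) * T + (2 * ((1 + 5 * (x / 1000)) * (x / 1000) * T) +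
        1011 / 1000 * x * (1 + x / 1000 + x / 1000) * (2 * T)) := by gcongr
    _ ≤ _ := by
      nlinarith [mul_nonneg (mul_nonneg hx0 hT0) (show (0 : ℚ) ≤ 1 / 1000 - x by linarith), mul_nonneg hx0 hT0]

lemma base_bound : nn 14 + yy 14 ≤ 76 / 5 * (1 - 4 * (1 / 2) ^ 14) := by
  have h0 : nn 0 ≤ 0 ∧ yy 0 ≤ 1 := by norm_num [nn, yy, acc]
  have h1 : nn 1 ≤ 116667 / 50000 ∧ yy 1 ≤ 266667 / 100000 :=
    step_num h0 (by norm_num [a0, gk, c0]) (by norm_num [a0, a1, gk, c0, c1])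
  have h2 : nn 2 ≤ 295239 / 50000 ∧ yy 2 ≤ 158731 / 50000 :=
    step_num h1 (by norm_num [a0, gk, c0]) (by norm_num [a0, a1, gk, c0, c1])
  have h3 : nn 3 ≤ 944667 / 100000 ∧ yy 3 ≤ 117921 / 50000 :=
    step_num h2 (by norm_num [a0, gk, c0]) (by norm_num [a0, a1, gk, c0, c1])
  have h4 : nn 4 ≤ 596069 / 50000 ∧ yy 4 ≤ 7373 / 5000 :=
    step_num h3 (by norm_num [a0, gk, c0]) (by norm_num [a0, a1, gk, c0, c1])
  have h5 : nn 5 ≤ 335719 / 25000 ∧ yy 5 ≤ 83141 / 100000 :=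
    step_num h4 (by norm_num [a0, gk, c0]) (by norm_num [a0, a1, gk, c0, c1])
  have h6 : nn 6 ≤ 178361 / 12500 ∧ yy 6 ≤ 44321 / 100000 :=
    step_num h5 (by norm_num [a0, gk, c0]) (by norm_num [a0, a1, gk, c0, c1])
  have h7 : nn 7 ≤ 735717 / 50000 ∧ yy 7 ≤ 22913 / 100000 :=
    step_num h6 (by norm_num [a0, gk, c0]) (by norm_num [a0, a1, gk, c0, c1])
  have h8 : nn 8 ≤ 298881 / 20000 ∧ yy 8 ≤ 5827 / 50000 :=
    step_num h7 (by norm_num [a0, gk, c0]) (by norm_num [a0, a1, gk, c0, c1])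
  have h9 : nn 9 ≤ 753037 / 50000 ∧ yy 9 ≤ 2939 / 50000 :=
    step_num h8 (by norm_num [a0, gk, c0]) (by norm_num [a0, a1, gk, c0, c1])
  have h10 : nn 10 ≤ 377989 / 25000 ∧ yy 10 ≤ 369 / 12500 :=
    step_num h9 (by norm_num [a0, gk, c0]) (by norm_num [a0, a1, gk, c0, c1])
  have h11 : nn 11 ≤ 1514909 / 100000 ∧ yy 11 ≤ 37 / 2500 :=
    step_num h10 (by norm_num [a0, gk, c0]) (by norm_num [a0, a1, gk, c0, c1])
  have h12 : nn 12 ≤ 151639 / 10000 ∧ yy 12 ≤ 741 / 100000 :=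
    step_num h11 (by norm_num [a0, gk, c0]) (by norm_num [a0, a1, gk, c0, c1])
  have h13 : nn 13 ≤ 379283 / 25000 ∧ yy 13 ≤ 371 / 100000 :=
    step_num h12 (by norm_num [a0, gk, c0]) (by norm_num [a0, a1, gk, c0, c1])
  have h14 : nn 14 ≤ 47422 / 3125 ∧ yy 14 ≤ 93 / 50000 :=
    step_num h13 (by norm_num [a0, gk, c0]) (by norm_num [a0, a1, gk, c0, c1])
  refine (add_le_add h14.1 h14.2).trans ?_
  norm_num

/-- the totals stay below `76 / 5` -/
theorem tot_le {L : ℕ} (hL : 14 ≤ L) : nn L + yy L ≤ 76 / 5 := by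
  suffices h : nn L + yy L ≤ 76 / 5 * (1 - 4 * (1 / 2) ^ L) by
    linarith [show (0 : ℚ) ≤ (1 / 2) ^ L by positivity]
  induction L, hL using Nat.le_induction with
  | base => exact base_bound
  | succ L hL ih =>
    refine (step_tail hL).trans ((mul_le_mul_of_nonneg_left ih (by positivity)).trans ?_)
    rw [pow_succ]
    nlinarith [mul_nonneg (show (0 : ℚ) ≤ (1 / 2) ^ L by positivity) (show (0 : ℚ) ≤ (1 / 2) ^ L by positivity),
      show (0 : ℚ) ≤ (1 / 2) ^ L by positivity]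

end SpEvenCount2557
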