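import Cfsg.Agent.GenA.SpEvenClassCount.Classify
import Cfsg.Agent.GenA.SpEvenClassCount.Numbers

/-!
Labels and tuples, counted with their weights.
-/

set_option autoImplicit false
set_option linter.unusedSectionVars false

universe u

namespace SpEvenCount2557

open Polynomial SpClassCount2482

/-! ### Labels for given multiplicities -/

/-- the possible labels for parts up to `2 L + 1` -/
def labs (a : ℕ → ℕ) : ℕ → Finset (Finset ℕ)
  | 0 => {∅}
  | L + 1 =>
    (if Even (a (2 * L + 2)) ∧ Even (a (2 * L + 3)) then labs a L else ∅) ∪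
      (if 0 < a (2 * L + 2) ∧ Even (a (2 * L + 3)) then (labs a L).image (insert (2 * L + 2)) else ∅)

/-- the factor of a size -/
noncomputable def fac (a : ℕ → ℕ) (S : Finset ℕ) (s : ℕ) : ℕ := by
  classical
  exact if bit a S s then 2 else 1

/-- the weight of a label -/
noncomputable def wgt (a : ℕ → ℕ) (L : ℕ) (S : Finset ℕ) : ℕ :=
  ∏ l ∈ Finset.range L, fac a S (2 * l + 2) * fac a S (2 * l + 3)

/-- the last pair carries a form or an odd part -/
def open' (a : ℕ → ℕ) (S : Finset ℕ) (L : ℕ) : Prop := L = 0 ∨ 2 * L ∈ S ∨ 0 < a (2 * L + 1)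

/-- the weighted numbers of labels, split by the state of the last pair -/
def cpair (a : ℕ → ℕ) : ℕ → ℕ × ℕ
  | 0 => (0, 1)
  | L + 1 =>
    (if Even (a (2 * L + 2)) ∧ a (2 * L + 3) = 0 then (cpair a L).1 + (cpair a L).2 else 0,
      (if Even (a (2 * L + 2)) ∧ (0 < a (2 * L + 3) ∧ Even (a (2 * L + 3))) then
          2 * ((cpair a L).1 + (cpair a L).2) else 0) +
        (if 0 < a (2 * L + 2) ∧ Even (a (2 * L + 3)) then 2 * (cpair a L).1 + (cpair a L).2 else 0))

lemma le_of_mem_labs {a : ℕ → ℕ} : ∀ {L : ℕ} {S : Finset ℕ}, S ∈ labs a L → ∀ s ∈ S, s ≤ 2 * L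
  | 0, S, h, s, hs => by rw [labs, Finset.mem_singleton] at h; subst h; simp at hs
  | L + 1, S, h, s, hs => by
    rw [labs, Finset.mem_union] at h
    rcases h with h | h
    · split_ifs at h with hc
      · have := le_of_mem_labs h s hs; omega
      · simp at h
    · split_ifs at h with hc
      · obtain ⟨T, hT, rfl⟩ := Finset.mem_image.1 h
        rcases Finset.mem_insert.1 hs with rfl | hs
        · omega
        · have := le_of_mem_labs hT s hs; omega
      · simp at h

lemma mem_labs {a : ℕ → ℕ} : ∀ {L : ℕ} {S : Finset ℕ}, (∀ s ∈ S, Even s ∧ 2 ≤ s ∧ s ≤ 2 * L) →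
    (∀ s, 2 ≤ s → s ≤ 2 * L + 1 → (s ∈ S → 0 < a s) ∧ (s ∉ S → Even (a s))) → S ∈ labs a L
  | 0, S, h, _ => by
    rw [labs, Finset.mem_singleton]
    exact Finset.eq_empty_of_forall_notMem fun s hs => by have := h s hs; omega
  | L + 1, S, h, hc => by
    have hodd : Even (a (2 * L + 3)) := (hc _ (by omega) (by omega)).2 fun hs => by
      obtain ⟨⟨k, hk⟩, -⟩ := h _ hs
      omega
    have hT : S.erase (2 * L + 2) ∈ labs a L := by
      refine mem_labs (fun s hs => ?_) fun s h1 h2 => ?_
      · obtain ⟨hne, hs⟩ := Finset.mem_erase.1 hs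
        obtain ⟨⟨k, rfl⟩, h1, h2⟩ := h s hs
        exact ⟨⟨k, rfl⟩, h1, by omega⟩
      · rw [Finset.mem_erase, and_iff_right (show s ≠ 2 * L + 2 by omega)]
        exact hc s h1 (by omega)
    rw [labs, Finset.mem_union]
    by_cases hs : 2 * L + 2 ∈ S
    · right
      rw [if_pos ⟨(hc _ (by omega) (by omega)).1 hs, hodd⟩]
      exact Finset.mem_image.2 ⟨_, hT, Finset.insert_erase hs⟩
    · left
      rw [if_pos ⟨(hc _ (by omega) (by omega)).2 hs, hodd⟩]
      rwa [Finset.erase_eq_of_notMem hs] at hT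

lemma bit_insert (a : ℕ → ℕ) (S : Finset ℕ) {s t : ℕ} (h : s < t) : bit a (insert t S) s ↔ bit a S s := by
  unfold bit
  simp only [Finset.mem_insert, show s ≠ t by omega, show s - 2 ≠ t by omega, show s - 1 ≠ t by omega, false_or]

lemma fac_insert (a : ℕ → ℕ) (S : Finset ℕ) {s t : ℕ} (h : s < t) : fac a (insert t S) s = fac a S s := by
  classical
  rw [fac, fac]
  exact if_congr (bit_insert a S h) rfl rfl

lemma wgt_insert (a : ℕ → ℕ) (S : Finset ℕ) {L t : ℕ} (h : 2 * L + 1 < t) : wgt a L (insert t S) = wgt a L S :=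
  Finset.prod_congr rfl fun l hl => by
    have := Finset.mem_range.1 hl
    rw [fac_insert a S (by omega), fac_insert a S (by omega)]

open Classical in
theorem sum_labs_le (a : ℕ → ℕ) : ∀ L,
    ∑ S ∈ labs a L, (if open' a S L then 0 else wgt a L S) ≤ (cpair a L).1 ∧
    ∑ S ∈ labs a L, (if open' a S L then wgt a L S else 0) ≤ (cpair a L).2
  | 0 => by simp [labs, cpair, wgt, open']
  | L + 1 => by
    obtain ⟨ihN, ihY⟩ := sum_labs_le a L
    have hT : ∑ S ∈ labs a L, wgt a L S ≤ (cpair a L).1 + (cpair a L).2 := by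
      refine le_trans (le_of_eq ?_) (Nat.add_le_add ihN ihY)
      rw [← Finset.sum_add_distrib]
      exact Finset.sum_congr rfl fun S _ => by split_ifs <;> simp
    have hT2 : ∑ S ∈ labs a L, (if open' a S L then wgt a L S else 2 * wgt a L S) ≤
        2 * (cpair a L).1 + (cpair a L).2 := by
      refine le_trans (le_of_eq ?_) (Nat.add_le_add (Nat.mul_le_mul_left 2 ihN) ihY)
      rw [Finset.mul_sum, ← Finset.sum_add_distrib]
      exact Finset.sum_congr rfl fun S _ => by split_ifs <;> simp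
    have hout : ∀ S ∈ labs a L, wgt a (L + 1) S = wgt a L S * (if 0 < a (2 * L + 3) then 2 else 1) ∧
        (open' a S (L + 1) ↔ 0 < a (2 * L + 3)) := by
      intro S hS
      have h1 : 2 * L + 2 ∉ S := fun h => by have := le_of_mem_labs hS _ h; omega
      have h2 : 2 * L + 3 ∉ S := fun h => by have := le_of_mem_labs hS _ h; omega
      have e1 : ¬ bit a S (2 * L + 2) := by
        rintro (⟨h, -⟩ | ⟨⟨k, hk⟩, -⟩)
        · exact h1 h
        · omega
      have e2 : bit a S (2 * L + 3) ↔ 0 < a (2 * L + 3) :=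
        ⟨fun h => h.elim (fun h => absurd h.1 h2) fun h => h.2.2.1,
          fun h => Or.inr ⟨⟨L + 1, by ring⟩, by omega, h, h1⟩⟩
      refine ⟨?_, ?_⟩
      · rw [wgt, Finset.prod_range_succ, ← wgt, fac, fac, if_neg e1, one_mul]
        simp only [e2]
      · simp only [open', show 2 * (L + 1) = 2 * L + 2 by ring, h1, Nat.succ_ne_zero, false_or]
    have hin : ∀ S ∈ labs a L,
        wgt a (L + 1) (insert (2 * L + 2) S) = (if open' a S L then wgt a L S else 2 * wgt a L S) ∧
        open' a (insert (2 * L + 2) S) (L + 1) := by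
      intro S hS
      have h2 : 2 * L + 3 ∉ S := fun h => by have := le_of_mem_labs hS _ h; omega
      set T := insert (2 * L + 2) S with hTdef
      have e2 : ¬ bit a T (2 * L + 3) := by
        rintro (⟨h, -⟩ | ⟨-, -, -, h⟩)
        · simp [hTdef, h2] at h
        · exact h (by simp [hTdef])
      have e1 : bit a T (2 * L + 2) ↔ ¬ open' a S L := by
        simp only [bit, open', hTdef, Finset.mem_insert]
        constructor
        · rintro (⟨-, h4, h, h0⟩ | ⟨⟨k, hk⟩, -⟩)
          · rw [show 2 * L + 2 - 2 = 2 * L by omega] at h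
            rw [show 2 * L + 2 - 1 = 2 * L + 1 by omega] at h0
            rintro (h' | h' | h')
            · omega
            · exact h (Or.inr h')
            · omega
          · omega
        · intro h
          push Not at h
          obtain ⟨hL, hS', ha⟩ := h
          refine Or.inl ⟨Or.inl trivial, by omega, ?_, ?_⟩
          · rw [show 2 * L + 2 - 2 = 2 * L by omega]
            rintro (h' | h')
            · omega
            · exact hS' h'
          · rw [show 2 * L + 2 - 1 = 2 * L + 1 by omega]; omega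
      refine ⟨?_, Or.inr (Or.inl (by simp [hTdef, show 2 * (L + 1) = 2 * L + 2 by ring]))⟩
      rw [wgt, Finset.prod_range_succ, ← wgt, hTdef, wgt_insert a S (by omega), ← hTdef, fac, fac, if_neg e2, mul_one]
      simp only [e1]
      split_ifs <;> ring
    have split : ∀ g : Finset ℕ → ℕ, ∑ S ∈ labs a (L + 1), g S ≤
        (if Even (a (2 * L + 2)) ∧ Even (a (2 * L + 3)) then ∑ S ∈ labs a L, g S else 0) +
        (if 0 < a (2 * L + 2) ∧ Even (a (2 * L + 3)) then ∑ S ∈ labs a L, g (insert (2 * L + 2) S) else 0) := by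
      intro g
      rw [labs]
      refine ((Nat.le_add_right _ _).trans (Finset.sum_union_inter).le).trans (Nat.add_le_add ?_ ?_) <;> split_ifs
      · exact le_rfl
      · simp
      · exact Finset.sum_image_le_of_nonneg fun _ _ => Nat.zero_le _
      · simp
    rw [cpair]
    refine ⟨(split _).trans ?_, (split _).trans ?_⟩
    · refine (Nat.add_le_add (le_refl _) (le_of_eq (?_ : _ = (0 : ℕ)))).trans ?_
      · split_ifs
        · exact Finset.sum_eq_zero fun S hS => if_pos (hin S hS).2
        · rfl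
      rw [add_zero]
      by_cases hc : a (2 * L + 3) = 0
      · by_cases ha : Even (a (2 * L + 2))
        · rw [if_pos ⟨ha, by rw [hc]; exact Even.zero⟩, if_pos (show _ ∧ _ from ⟨ha, hc⟩)]
          refine le_trans (le_of_eq (Finset.sum_congr rfl fun S hS => ?_)) hT
          rw [if_neg (fun h => by have := (hout S hS).2.1 h; omega), (hout S hS).1, if_neg (by omega), mul_one]
        · rw [if_neg fun h => ha h.1]; exact Nat.zero_le _
      · refine le_trans (le_of_eq ?_) (Nat.zero_le _)
        split_ifs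
        · exact Finset.sum_eq_zero fun S hS => if_pos ((hout S hS).2.2 (Nat.pos_of_ne_zero hc))
        · rfl
    · refine Nat.add_le_add ?_ ?_
      · by_cases hc : a (2 * L + 3) = 0
        · refine le_trans (le_of_eq ?_) (Nat.zero_le _)
          split_ifs
          · exact Finset.sum_eq_zero fun S hS => if_neg fun h => by have := (hout S hS).2.1 h; omega
          · rfl
        · by_cases h : Even (a (2 * L + 2)) ∧ Even (a (2 * L + 3))
          · rw [if_pos h, if_pos (show _ ∧ (_ ∧ _) from ⟨h.1, Nat.pos_of_ne_zero hc, h.2⟩)]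
            refine le_trans (le_of_eq ?_) (Nat.mul_le_mul_left 2 hT)
            rw [Finset.mul_sum]
            refine Finset.sum_congr rfl fun S hS => ?_
            rw [if_pos ((hout S hS).2.2 (Nat.pos_of_ne_zero hc)), (hout S hS).1, if_pos (Nat.pos_of_ne_zero hc), mul_comm]
          · rw [if_neg h]; exact Nat.zero_le _
      · split_ifs
        · refine le_trans (le_of_eq (Finset.sum_congr rfl fun S hS => ?_)) hT2
          rw [if_pos (hin S hS).2, (hin S hS).1]
        · exact le_rfl

/-- the total number of labelled classes -/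
def ctot (a : ℕ → ℕ) (L : ℕ) : ℕ := (cpair a L).1 + (cpair a L).2

lemma sum_wgt_le (a : ℕ → ℕ) (L : ℕ) : ∑ S ∈ labs a L, wgt a L S ≤ ctot a L := by
  classical
  obtain ⟨h1, h2⟩ := sum_labs_le a L
  refine le_trans (le_of_eq ?_) (Nat.add_le_add h1 h2)
  rw [← Finset.sum_add_distrib]
  exact Finset.sum_congr rfl fun S _ => by split_ifs <;> simp

lemma cpair_congr {a a' : ℕ → ℕ} : ∀ {L : ℕ}, (∀ s, 2 ≤ s → s ≤ 2 * L + 1 → a s = a' s) → cpair a L = cpair a' L
  | 0, _ => rfl
  | L + 1, h => by
    rw [cpair, cpair, cpair_congr (L := L) fun s h1 h2 => h s h1 (by omega), h (2 * L + 2) (by omega) (by omega),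
      h (2 * L + 3) (by omega) (by omega)]

lemma ctot_congr {a a' : ℕ → ℕ} {L : ℕ} (h : ∀ s, 2 ≤ s → s ≤ 2 * L + 1 → a s = a' s) : ctot a L = ctot a' L := by
  rw [ctot, ctot, cpair_congr h]

lemma pow_card_le_wgt {a : ℕ → ℕ} {S : Finset ℕ} (B : Finset ℕ) (hB : ∀ s ∈ B, bit a S s) :
    ∀ {L : ℕ}, (∀ s ∈ B, 2 ≤ s ∧ s ≤ 2 * L + 1) → 2 ^ B.card ≤ wgt a L S := by
  intro L
  induction L generalizing B with
  | zero =>
    intro h
    rw [Finset.eq_empty_of_forall_notMem (s := B) fun s hs => by have := h s hs; omega]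
    simp [wgt]
  | succ L ih =>
    intro h
    classical
    set B' := B.filter (· ≤ 2 * L + 1) with hB'
    have h' := ih B' (fun s hs => hB s (Finset.mem_filter.1 hs).1) fun s hs =>
      ⟨(h s (Finset.mem_filter.1 hs).1).1, (Finset.mem_filter.1 hs).2⟩
    have hsub : B ⊆ B' ∪ (({2 * L + 2, 2 * L + 3} : Finset ℕ).filter (bit a S)) := fun s hs => by
      rw [Finset.mem_union]
      by_cases hle : s ≤ 2 * L + 1
      · exact Or.inl (Finset.mem_filter.2 ⟨hs, hle⟩)
      · refine Or.inr (Finset.mem_filter.2 ⟨?_, hB s hs⟩)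
        have := h s hs
        simp only [Finset.mem_insert, Finset.mem_singleton]
        omega
    refine (Nat.pow_le_pow_right two_pos ((Finset.card_le_card hsub).trans (Finset.card_union_le _ _))).trans ?_
    rw [pow_add, wgt, Finset.prod_range_succ, ← wgt]
    refine Nat.mul_le_mul h' (le_of_eq ?_)
    rw [Finset.filter_insert, Finset.filter_singleton, fac, fac]
    split_ifs <;> simp

/-! ### Sets of polynomials -/

variable {F : Type u} [Field F] [Fintype F] [CharP F 2]

omit [Fintype F] in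
lemma SR_const {f : F[X]} (h : SR f) : f.coeff 0 = 1 := by
  rcases h.const_cases with h1 | h1
  · exact h1
  · rwa [CharTwo.neg_eq] at h1

omit [Fintype F] in
lemma sr_ext {f g : F[X]} (hf : SR f) (hg : SR g) {d : ℕ} (hdf : f.natDegree = d) (hdg : g.natDegree = d)
    (h : ∀ i, i + 1 + (i + 1) ≤ d → f.coeff (i + 1) = g.coeff (i + 1)) : f = g := by
  have hlow : ∀ i, i + i ≤ d → f.coeff i = g.coeff i := by
    rintro (_ | i) hi
    · rw [SR_const hf, SR_const hg]
    · exact h i hi
  ext i
  rcases le_or_gt i d with hi | hi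
  · by_cases h2 : i + i ≤ d
    · exact hlow i h2
    · have e1 := hf.coeff_eq (i := d - i) (by omega)
      have e2 := hg.coeff_eq (i := d - i) (by omega)
      rw [hdf, show d - (d - i) = i by omega, SR_const hf, one_mul] at e1
      rw [hdg, show d - (d - i) = i by omega, SR_const hg, one_mul] at e2
      rw [e1, e2, hlow (d - i) (by omega)]
  · rw [coeff_eq_zero_of_natDegree_lt (by omega), coeff_eq_zero_of_natDegree_lt (by omega)]

lemma card_sr_le (b : ℕ) : (srSet F (2 * b)).card ≤ Fintype.card F ^ b := by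
  classical
  refine le_trans (Finset.card_le_card_of_injOn (t := (Finset.univ : Finset (Fin b → F)))
    (fun f i => f.coeff (i.val + 1)) (fun _ _ => Finset.mem_univ _) fun f hf g hg h => ?_)
    (le_of_eq (by rw [Finset.card_univ, Fintype.card_fun, Fintype.card_fin]))
  obtain ⟨hf, hdf⟩ := mem_srSet.1 hf
  obtain ⟨hg, hdg⟩ := mem_srSet.1 hg
  exact sr_ext hf hg hdf hdg fun i hi => congrFun h ⟨i, by omega⟩

omit [Fintype F] in
lemma eval_one_middle {f : F[X]} (h : SR f) {b : ℕ} (hd : f.natDegree = 2 * b) : f.eval 1 = f.coeff b := by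
  rw [eval_eq_sum_range, hd, show 2 * b + 1 = (b + 1) + b by omega, Finset.sum_range_add, Finset.sum_range_succ]
  simp only [one_pow, mul_one]
  have e : ∑ i ∈ Finset.range b, f.coeff (b + 1 + i) = ∑ i ∈ Finset.range b, f.coeff i := by
    rw [← Finset.sum_range_reflect (fun i => f.coeff (b + 1 + i))]
    refine Finset.sum_congr rfl fun i hi => ?_
    have hi' := Finset.mem_range.1 hi
    have := h.coeff_eq (i := i) (by omega)
    rw [SR_const h, one_mul, hd] at this
    rw [show b + 1 + (b - 1 - i) = 2 * b - i by omega, this]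
  rw [e]
  linear_combination (∑ i ∈ Finset.range b, f.coeff i) * CharTwo.two_eq_zero (R := F)

/-- number of self-reciprocal polynomials of half degree `b` without the root one -/
def gcnt (q : ℕ) : ℕ → ℕ
  | 0 => 1
  | b + 1 => (q - 1) * q ^ b

variable (F) in
/-- self-reciprocal polynomials of half degree `b` without the root one -/
noncomputable def gSet (b : ℕ) : Finset F[X] := by
  classical
  exact (srSet F (2 * b)).filter fun f => f.eval 1 ≠ 0

lemma card_gSet_le : ∀ b, (gSet F b).card ≤ gcnt (Fintype.card F) b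
  | 0 => by
    classical
    rw [gSet, gcnt]
    exact (Finset.card_filter_le _ _).trans ((card_sr_le 0).trans (le_of_eq (pow_zero _)))
  | c + 1 => by
    classical
    rw [gSet, gcnt]
    let t : Finset (F × (Fin c → F)) := ((Finset.univ : Finset F).erase 0) ×ˢ Finset.univ
    refine le_trans (Finset.card_le_card_of_injOn (t := t) (fun f => (f.coeff (c + 1), fun i => f.coeff (i.val + 1)))
      (fun f hf => ?_) fun f hf g hg h => ?_) (le_of_eq ?_)
    · obtain ⟨hf, hne⟩ := Finset.mem_filter.1 hf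
      obtain ⟨hf, hdf⟩ := mem_srSet.1 hf
      rw [eval_one_middle hf hdf] at hne
      simp [t, hne]
    · obtain ⟨hf, hdf⟩ := mem_srSet.1 (Finset.mem_filter.1 hf).1
      obtain ⟨hg, hdg⟩ := mem_srSet.1 (Finset.mem_filter.1 hg).1
      simp only [Prod.mk.injEq] at h
      refine sr_ext hf hg hdf hdg fun i hi => ?_
      rcases Nat.lt_or_ge i c with hc | hc
      · exact congrFun h.2 ⟨i, hc⟩
      · rw [show i = c by omega]; exact h.1
    · rw [Finset.card_product, Finset.card_erase_of_mem (Finset.mem_univ _), Finset.card_univ, Finset.card_univ,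
        Fintype.card_fun, Fintype.card_fin]

omit [Fintype F] [CharP F 2] in
lemma natDegree_of_mem_srSet [Fintype F] {m : ℕ} {f : F[X]} (h : f ∈ srSet F m) : f.natDegree = m :=
  (mem_srSet.1 h).2

lemma mem_gSet {f : F[X]} (h : SR f) (h1 : f.eval 1 ≠ 0) : f ∈ gSet F (f.natDegree / 2) := by
  classical
  haveI : Finite F := Finite.of_fintype F
  rw [gSet, Finset.mem_filter, mem_srSet]
  refine ⟨⟨h, ?_⟩, h1⟩
  by_contra hne
  exact h1 (eval_one_of_odd h (Nat.odd_iff.2 (by omega)))

/-! ### Tuples -/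

variable (F) in
/-- polynomials without the root one -/
noncomputable def gAll (n : ℕ) : Finset F[X] := by
  classical
  exact (Finset.range (n + 1)).biUnion (gSet F)

lemma exists_of_mem_gAll {n : ℕ} {g : F[X]} (h : g ∈ gAll F n) : ∃ b, g ∈ gSet F b := by
  classical
  rw [gAll] at h
  obtain ⟨b, -, hb⟩ := Finset.mem_biUnion.1 h
  exact ⟨b, hb⟩

variable (F) in
/-- the entries of a part -/
noncomputable def entries (n : ℕ) : Finset (ℕ × F[X]) := Finset.range (n + 1) ×ˢ gAll F n

/-- half weight of an entry -/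
noncomputable def wtE (k : ℕ) (e : ℕ × F[X]) : ℕ :=
  if k % 2 = 0 then k / 2 * (e.1 + e.2.natDegree) else k * ((e.1 + e.2.natDegree) / 2)

/-- half weight of a tuple -/
noncomputable def wt (L : ℕ) (v : ℕ → ℕ × F[X]) : ℕ :=
  ∑ l ∈ Finset.range L, (wtE (2 * l + 2) (v (2 * l + 2)) + wtE (2 * l + 3) (v (2 * l + 3)))

variable (F) in
/-- tuples of entries for the parts `2, ..., 2 L + 1` -/
noncomputable def rest (n : ℕ) : ℕ → Finset (ℕ → ℕ × F[X])
  | 0 => {fun _ => (0, 1)}
  | L + 1 => by
    classical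
    exact (rest n L ×ˢ (entries F n ×ˢ entries F n)).image
      fun x => Function.update (Function.update x.1 (2 * L + 2) x.2.1) (2 * L + 3) x.2.2

/-- the multiplicities of a tuple -/
def av (v : ℕ → ℕ × F[X]) : ℕ → ℕ := fun s => (v s).1

lemma mem_rest (n : ℕ) : ∀ (L : ℕ) (v : ℕ → ℕ × F[X]), (∀ k, k < 2 ∨ 2 * L + 1 < k → v k = (0, 1)) →
    (∀ k, 2 ≤ k → k ≤ 2 * L + 1 → v k ∈ entries F n) → v ∈ rest F n L
  | 0, v, h, _ => by
    rw [rest, Finset.mem_singleton]
    funext k
    exact h k (by omega)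
  | L + 1, v, h, hP => by
    classical
    rw [rest, Finset.mem_image]
    refine ⟨(Function.update (Function.update v (2 * L + 2) (0, 1)) (2 * L + 3) (0, 1), v (2 * L + 2), v (2 * L + 3)),
      Finset.mem_product.2 ⟨mem_rest n L _ (fun k hk => ?_) (fun k h1 h2 => ?_),
        Finset.mem_product.2 ⟨hP _ (by omega) (by omega), hP _ (by omega) (by omega)⟩⟩, ?_⟩
    · simp only [Function.update_apply]
      split_ifs <;> first | rfl | exact h k (by omega)
    · dsimp only
      rw [Function.update_of_ne (by omega), Function.update_of_ne (by omega)]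
      exact hP k h1 (by omega)
    · funext k
      simp only [Function.update_apply]
      split_ifs <;> simp_all

omit [Fintype F] [CharP F 2] in
lemma wt_congr {v v' : ℕ → ℕ × F[X]} {L : ℕ} (h : ∀ s, 2 ≤ s → s ≤ 2 * L + 1 → v s = v' s) : wt L v = wt L v' :=
  Finset.sum_congr rfl fun l hl => by
    have := Finset.mem_range.1 hl
    rw [h _ (by omega) (by omega), h _ (by omega) (by omega)]

/-! ### The weighted sums -/

lemma sum_biUnion_le' {α β : Type*} [DecidableEq β] (s : Finset α) (t : α → Finset β) (f : β → ℚ)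
    (hf : ∀ x, 0 ≤ f x) : ∑ x ∈ s.biUnion t, f x ≤ ∑ a ∈ s, ∑ x ∈ t a, f x := by
  classical
  induction s using Finset.induction_on with
  | empty => simp
  | insert a s ha ih =>
    rw [Finset.biUnion_insert, Finset.sum_insert ha]
    refine le_trans ?_ (add_le_add le_rfl ih)
    rw [← Finset.sum_union_inter]
    exact le_add_of_nonneg_right (Finset.sum_nonneg fun x _ => hf x)

section sums

variable {y : ℚ} (hy0 : 0 < y) (hy : y ≤ 1 / 2)

include hy0 hy

omit [Fintype F] [CharP F 2] in
lemma pow_half_le (i : ℕ) : y ^ i ≤ (1 / 2) ^ i := pow_le_pow_left₀ hy0.le hy i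

omit [Fintype F] [CharP F 2] in
lemma geo_le {i : ℕ} (hi : i ≠ 0) (M : ℕ) : ∑ j ∈ Finset.range M, (y ^ i) ^ j ≤ 1 / (1 - (1 / 2) ^ i) := by
  have h1 := half_pow_lt hi
  have h2 := pow_half_le hy0 hy i
  have h0 : 0 ≤ y ^ i := by positivity
  calc ∑ j ∈ Finset.range M, (y ^ i) ^ j ≤ 1 / (1 - y ^ i) := by
        rw [le_div_iff₀ (by linarith), geom_sum_mul_neg]
        linarith [pow_nonneg h0 M]
    _ ≤ _ := div_le_div_of_nonneg_left one_pos.le (by linarith) (by linarith)

omit [Fintype F] [CharP F 2] in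
lemma geo_succ_le {i : ℕ} (hi : i ≠ 0) (M : ℕ) :
    ∑ j ∈ Finset.range M, (y ^ i) ^ (j + 1) ≤ (1 / 2) ^ i / (1 - (1 / 2) ^ i) := by
  simp only [pow_succ, ← Finset.sum_mul]
  have h1 := half_pow_lt hi
  refine (mul_le_mul (geo_le hy0 hy hi M) (pow_half_le hy0 hy i) (by positivity) ?_).trans (le_of_eq ?_)
  · exact div_nonneg one_pos.le (by linarith)
  · ring

omit [Fintype F] [CharP F 2] in
lemma even_le {l : ℕ} (hl : l ≠ 0) (M : ℕ) :
    ∑ a ∈ Finset.range M, (if Even a then y ^ (l * a) else 0) ≤ 1 / (1 - (1 / 2) ^ (2 * l)) := by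
  have key : ∀ j, ∑ a ∈ Finset.range (2 * j), (if Even a then y ^ (l * a) else 0) =
      ∑ i ∈ Finset.range j, (y ^ (2 * l)) ^ i := by
    intro j
    induction j with
    | zero => simp
    | succ j ih =>
      rw [show 2 * (j + 1) = 2 * j + 1 + 1 by ring, Finset.sum_range_succ, Finset.sum_range_succ, ih,
        Finset.sum_range_succ _ j, if_pos (even_two_mul j), if_neg (Nat.not_even_iff_odd.2 (odd_two_mul_add_one j)),
        add_zero]
      ring
  refine (Finset.sum_le_sum_of_subset_of_nonneg (Finset.range_subset_range.2 (show M ≤ 2 * M by omega))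
    fun a _ _ => by split_ifs <;> positivity).trans ?_
  rw [key]
  exact geo_le hy0 hy (by omega) _

omit [Fintype F] [CharP F 2] in
lemma pos_le {l : ℕ} (hl : l ≠ 0) (M : ℕ) :
    ∑ a ∈ Finset.range M, (if 0 < a then y ^ (l * a) else 0) ≤ (1 / 2) ^ l / (1 - (1 / 2) ^ l) := by
  refine (Finset.sum_le_sum_of_subset_of_nonneg (Finset.range_subset_range.2 (Nat.le_succ M))
    fun a _ _ => by split_ifs <;> positivity).trans ?_
  rw [Finset.sum_range_succ']
  simp only [Nat.succ_pos', if_pos, lt_self_iff_false, if_false, add_zero, pow_mul]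
  exact geo_succ_le hy0 hy hl M

omit [Fintype F] [CharP F 2] in
lemma pos_even_le {k : ℕ} (hk : k ≠ 0) (M : ℕ) :
    ∑ a ∈ Finset.range M, (if 0 < a ∧ Even a then y ^ (k * (a / 2)) else 0) ≤ (1 / 2) ^ k / (1 - (1 / 2) ^ k) := by
  have key : ∀ j, ∑ a ∈ Finset.range (2 * (j + 1)), (if 0 < a ∧ Even a then y ^ (k * (a / 2)) else 0) =
      ∑ i ∈ Finset.range j, (y ^ k) ^ (i + 1) := by
    intro j
    induction j with
    | zero => simp [Finset.sum_range_succ]
    | succ j ih =>
      rw [show 2 * (j + 1 + 1) = 2 * (j + 1) + 1 + 1 by ring, Finset.sum_range_succ, Finset.sum_range_succ, ih,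
        Finset.sum_range_succ _ j, if_pos ⟨by omega, even_two_mul _⟩,
        if_neg (fun h => Nat.not_even_iff_odd.2 (odd_two_mul_add_one (j + 1)) h.2), add_zero,
        show 2 * (j + 1) / 2 = j + 1 by omega, pow_mul]
  refine (Finset.sum_le_sum_of_subset_of_nonneg (Finset.range_subset_range.2 (show M ≤ 2 * (M + 1) by omega))
    fun a _ _ => by split_ifs <;> positivity).trans ?_
  rw [key]
  exact geo_succ_le hy0 hy hk _

variable (hqy : (Fintype.card F : ℚ) * y = 1)

include hqy

omit [CharP F 2] in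
lemma gcnt_le {k : ℕ} (hk : 2 ≤ k) (M : ℕ) :
    ∑ b ∈ Finset.range M, (gcnt (Fintype.card F) b : ℚ) * (y ^ k) ^ b ≤ gk k := by
  set q := Fintype.card F with hq
  have hq1 : 1 ≤ q := Fintype.card_pos
  obtain ⟨j, rfl⟩ : ∃ j, k = j + 1 := ⟨k - 1, by omega⟩
  have hj : j ≠ 0 := by omega
  set z := y ^ j with hz
  have hz0 : 0 ≤ z := by positivity
  have hz1 : z < 1 := (pow_half_le hy0 hy j).trans_lt (half_pow_lt hj)
  have hd0 : 0 ≤ (1 - y) * z := mul_nonneg (by linarith) hz0
  have e : ∀ b, (gcnt q (b + 1) : ℚ) * (y ^ (j + 1)) ^ (b + 1) = (1 - y) * z * z ^ b := by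
    intro b
    rw [gcnt, Nat.cast_mul, Nat.cast_pow, Nat.cast_sub hq1, Nat.cast_one, pow_succ y j, ← hz, mul_pow, pow_succ' z b,
      pow_succ' y b]
    have hqb : ((q : ℚ) * y) ^ b = 1 := by rw [hqy, one_pow]
    rw [mul_pow] at hqb
    linear_combination ((q : ℚ) - 1) * z * z ^ b * y * hqb + z * z ^ b * hqy
  refine (Finset.sum_le_sum_of_subset_of_nonneg (Finset.range_subset_range.2 (Nat.le_succ M))
    fun b _ _ => by positivity).trans ?_
  rw [Finset.sum_range_succ']
  simp only [e, pow_zero, mul_one, ← Finset.mul_sum]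
  rw [show gcnt q 0 = 1 from rfl, Nat.cast_one]
  have hgeo : ∑ b ∈ Finset.range M, z ^ b ≤ 1 / (1 - z) := by
    rw [le_div_iff₀ (by linarith), geom_sum_mul_neg]
    linarith [pow_nonneg hz0 M]
  refine (add_le_add (mul_le_mul_of_nonneg_left hgeo hd0) le_rfl).trans ?_
  -- monotonicity in `y`
  have hy1 : 0 ≤ 1 - y := by linarith
  set h : ℚ := 1 / 2 with hh
  have hw : h ^ j < 1 := half_pow_lt hj
  have hkey : z * ∑ i ∈ Finset.range j, h ^ i ≤ h ^ j * ∑ i ∈ Finset.range j, y ^ i := by
    rw [Finset.mul_sum, Finset.mul_sum]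
    refine Finset.sum_le_sum fun i hi => ?_
    have hi' := Finset.mem_range.1 hi
    obtain ⟨d, rfl⟩ : ∃ d, j = i + d := ⟨j - i, by omega⟩
    have hp := pow_half_le hy0 hy d
    rw [hz, pow_add, pow_add, hh]
    nlinarith [mul_le_mul_of_nonneg_left hp (show 0 ≤ y ^ i * (1 / 2 : ℚ) ^ i by positivity)]
  have hgy := geom_sum_mul_neg y j
  have hgh := geom_sum_mul_neg h j
  have hmain : (1 - y) * z * (1 - h ^ j) ≤ (1 - h) * h ^ j * (1 - z) := by
    rw [← hgh, hz, ← hgy, ← hz]
    have := mul_le_mul_of_nonneg_left hkey (show 0 ≤ (1 - y) * (1 - h) by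
      rw [hh]; exact mul_nonneg hy1 (by norm_num))
    linarith
  rw [gk, Nat.add_sub_cancel, le_div_iff₀ (by linarith), add_mul, one_mul, mul_one_div,
    div_mul_eq_mul_div]
  have : (1 - y) * z * (1 - h ^ j) / (1 - z) ≤ (1 - h) * h ^ j := by
    rw [div_le_iff₀ (by linarith)]; exact hmain
  rw [pow_succ]
  linarith

lemma g_sum_le {k : ℕ} (hk : 2 ≤ k) (n : ℕ) :
    ∑ g ∈ gAll F n, y ^ (k * (g.natDegree / 2)) ≤ gk k := by
  classical
  rw [gAll]
  refine (sum_biUnion_le' _ _ _ fun g => by positivity).trans ((Finset.sum_le_sum fun b _ => ?_).trans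
    (gcnt_le (F := F) hy0 hy hqy hk (n + 1)))
  have h : ∀ g ∈ gSet F b, y ^ (k * (g.natDegree / 2)) = (y ^ k) ^ b := fun g hg => by
    rw [gSet, Finset.mem_filter] at hg
    rw [natDegree_of_mem_srSet hg.1, show 2 * b / 2 = b by omega, pow_mul]
  rw [Finset.sum_congr rfl h, Finset.sum_const, nsmul_eq_mul]
  exact mul_le_mul_of_nonneg_right (by exact_mod_cast card_gSet_le b) (by positivity)

lemma entry_even_sum {l : ℕ} (hl : 1 ≤ l) (n : ℕ) (P : ℕ → Prop) [DecidablePred P] (bd : ℚ)
    (hbd : ∑ a ∈ Finset.range (n + 1), (if P a then y ^ (l * a) else 0) ≤ bd) :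
    ∑ e ∈ entries F n, (if P e.1 then y ^ wtE (2 * l) e else 0) ≤ bd * gk (2 * l) := by
  classical
  have hbd0 : 0 ≤ bd := le_trans (Finset.sum_nonneg fun a _ => by split_ifs <;> positivity) hbd
  rw [entries, Finset.sum_product]
  refine le_trans (le_of_eq ?_) (mul_le_mul hbd (g_sum_le (F := F) hy0 hy hqy (by omega) n)
    (Finset.sum_nonneg fun g _ => by positivity) hbd0)
  rw [Finset.sum_mul]
  refine Finset.sum_congr rfl fun a _ => ?_
  rw [Finset.mul_sum]
  refine Finset.sum_congr rfl fun g hg => ?_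
  obtain ⟨b, hb⟩ := exists_of_mem_gAll hg
  rw [gSet, Finset.mem_filter] at hb
  rw [wtE, if_pos (show 2 * l % 2 = 0 by omega), natDegree_of_mem_srSet hb.1]
  split_ifs
  · rw [← pow_add, show 2 * l / 2 = l by omega, show 2 * b / 2 = b by omega]
    congr 1
    ring
  · rw [zero_mul]

lemma entry_odd_sum {l : ℕ} (hl : 1 ≤ l) (n : ℕ) (P : ℕ → Prop) [DecidablePred P] (hP : ∀ a, P a → Even a) (bd : ℚ)
    (hbd : ∑ a ∈ Finset.range (n + 1), (if P a then y ^ ((2 * l + 1) * (a / 2)) else 0) ≤ bd) :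
    ∑ e ∈ entries F n, (if P e.1 then y ^ wtE (2 * l + 1) e else 0) ≤ bd * gk (2 * l + 1) := by
  classical
  have hbd0 : 0 ≤ bd := le_trans (Finset.sum_nonneg fun a _ => by split_ifs <;> positivity) hbd
  rw [entries, Finset.sum_product]
  refine le_trans (le_of_eq ?_) (mul_le_mul hbd (g_sum_le (F := F) hy0 hy hqy (by omega) n)
    (Finset.sum_nonneg fun g _ => by positivity) hbd0)
  rw [Finset.sum_mul]
  refine Finset.sum_congr rfl fun a _ => ?_
  rw [Finset.mul_sum]
  refine Finset.sum_congr rfl fun g hg => ?_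
  obtain ⟨b, hb⟩ := exists_of_mem_gAll hg
  rw [gSet, Finset.mem_filter] at hb
  rw [wtE, if_neg (show ¬ (2 * l + 1) % 2 = 0 by omega), natDegree_of_mem_srSet hb.1]
  split_ifs with h
  · obtain ⟨c, rfl⟩ := hP a h
    rw [← pow_add, show (c + c + 2 * b) / 2 = c + b by omega, show (c + c) / 2 = c by omega,
      show 2 * b / 2 = b by omega, mul_add]
  · rw [zero_mul]

/-- the accumulated weighted totals -/
theorem rest_le (n : ℕ) : ∀ L,
    ∑ v ∈ rest F n L, ((cpair (av v) L).1 : ℚ) * y ^ wt L v ≤ nn L ∧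
    ∑ v ∈ rest F n L, ((cpair (av v) L).2 : ℚ) * y ^ wt L v ≤ yy L
  | 0 => by simp [rest, cpair, wt, nn, yy, acc]
  | L + 1 => by
    classical
    obtain ⟨ihN, ihY⟩ := rest_le n L
    obtain ⟨n0, y0⟩ := acc_nonneg L
    set upd : (ℕ → ℕ × F[X]) × (ℕ × F[X]) × (ℕ × F[X]) → (ℕ → ℕ × F[X]) :=
      fun x => Function.update (Function.update x.1 (2 * L + 2) x.2.1) (2 * L + 3) x.2.2 with hupd
    have hval : ∀ x, upd x (2 * L + 2) = x.2.1 ∧ upd x (2 * L + 3) = x.2.2 ∧
        ∀ s, s ≤ 2 * L + 1 → upd x s = x.1 s := fun x =>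
      ⟨by simp only [hupd]; rw [Function.update_of_ne (by omega), Function.update_self],
       by simp only [hupd]; rw [Function.update_self],
       fun s hs => by simp only [hupd]; rw [Function.update_of_ne (by omega), Function.update_of_ne (by omega)]⟩
    have hw : ∀ x, y ^ wt (L + 1) (upd x) =
        y ^ wt L x.1 * (y ^ wtE (2 * (L + 1)) x.2.1 * y ^ wtE (2 * (L + 1) + 1) x.2.2) := by
      intro x
      obtain ⟨e1, e2, e3⟩ := hval x
      rw [wt, Finset.sum_range_succ, ← wt, e1, e2, wt_congr (v' := x.1) fun s _ hs => e3 s hs, pow_add, pow_add]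
      rfl
    have hc : ∀ x, cpair (av (upd x)) (L + 1) =
        (if Even x.2.1.1 ∧ x.2.2.1 = 0 then (cpair (av x.1) L).1 + (cpair (av x.1) L).2 else 0,
          (if Even x.2.1.1 ∧ (0 < x.2.2.1 ∧ Even x.2.2.1) then 2 * ((cpair (av x.1) L).1 + (cpair (av x.1) L).2) else 0) +
            (if 0 < x.2.1.1 ∧ Even x.2.2.1 then 2 * (cpair (av x.1) L).1 + (cpair (av x.1) L).2 else 0)) := by
      intro x
      obtain ⟨e1, e2, e3⟩ := hval x
      rw [cpair, cpair_congr (a := av (upd x)) (a' := av x.1) (L := L) fun s _ hs => congrArg Prod.fst (e3 s hs)]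
      simp only [av, e1, e2]
    have himg : ∀ g : (ℕ → ℕ × F[X]) → ℚ, (∀ v, 0 ≤ g v) → ∑ v ∈ rest F n (L + 1), g v ≤
        ∑ v ∈ rest F n L, ∑ p ∈ entries F n, ∑ r ∈ entries F n, g (upd (v, p, r)) := by
      intro g hg
      rw [rest]
      refine (Finset.sum_image_le_of_nonneg fun v _ => hg v).trans (le_of_eq ?_)
      rw [Finset.sum_product]
      refine Finset.sum_congr rfl fun v _ => ?_
      rw [Finset.sum_product]
    have hfact : ∀ (A : (ℕ → ℕ × F[X]) → ℚ) (P Q : ℕ → Prop) [DecidablePred P] [DecidablePred Q],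
        ∑ v ∈ rest F n L, ∑ p ∈ entries F n, ∑ r ∈ entries F n,
          A v * y ^ wt L v * ((if P p.1 then y ^ wtE (2 * (L + 1)) p else 0) *
            (if Q r.1 then y ^ wtE (2 * (L + 1) + 1) r else 0)) =
        (∑ v ∈ rest F n L, A v * y ^ wt L v) * ((∑ p ∈ entries F n, (if P p.1 then y ^ wtE (2 * (L + 1)) p else 0)) *
            ∑ r ∈ entries F n, (if Q r.1 then y ^ wtE (2 * (L + 1) + 1) r else 0)) := by
      intro A P Q _ _
      rw [Finset.sum_mul_sum, Finset.sum_mul]
      refine Finset.sum_congr rfl fun v _ => ?_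
      rw [Finset.mul_sum]
      refine Finset.sum_congr rfl fun p _ => ?_
      rw [Finset.mul_sum]
    have hA0 : ∑ p ∈ entries F n, (if Even p.1 then y ^ wtE (2 * (L + 1)) p else 0) ≤ a0 (L + 1) := by
      refine (entry_even_sum (F := F) hy0 hy hqy (l := L + 1) (by omega) n Even _ (even_le hy0 hy (by omega) _)).trans
        (le_of_eq ?_)
      rw [a0]; ring
    have hA1 : ∑ p ∈ entries F n, (if 0 < p.1 then y ^ wtE (2 * (L + 1)) p else 0) ≤ a1 (L + 1) := by
      refine (entry_even_sum (F := F) hy0 hy hqy (l := L + 1) (by omega) n (0 < ·) _ (pos_le hy0 hy (by omega) _)).trans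
        (le_of_eq ?_)
      rw [a1]; ring
    have hC0 : ∑ r ∈ entries F n, (if r.1 = 0 then y ^ wtE (2 * (L + 1) + 1) r else 0) ≤ c0 (L + 1) := by
      refine (entry_odd_sum (F := F) hy0 hy hqy (l := L + 1) (by omega) n (· = 0) (fun a h => h ▸ Even.zero) 1
        (le_of_eq ?_)).trans (le_of_eq ?_)
      · rw [Finset.sum_ite_eq']; simp
      · rw [c0, one_mul]
    have hC1 : ∑ r ∈ entries F n, (if 0 < r.1 ∧ Even r.1 then y ^ wtE (2 * (L + 1) + 1) r else 0) ≤ c1 (L + 1) := by
      refine (entry_odd_sum (F := F) hy0 hy hqy (l := L + 1) (by omega) n (fun a => 0 < a ∧ Even a) (fun a h => h.2) _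
        (pos_even_le hy0 hy (by omega) _)).trans (le_of_eq ?_)
      rw [c1]; ring
    have hC : ∑ r ∈ entries F n, (if Even r.1 then y ^ wtE (2 * (L + 1) + 1) r else 0) ≤ c0 (L + 1) + c1 (L + 1) := by
      refine le_trans (le_of_eq ?_) (add_le_add hC0 hC1)
      rw [← Finset.sum_add_distrib]
      refine Finset.sum_congr rfl fun r _ => ?_
      rcases Nat.eq_zero_or_pos r.1 with h | h
      · rw [if_pos h, if_pos (h ▸ Even.zero), if_neg (fun h' => by omega), add_zero]
      · rw [if_neg (show ¬ r.1 = 0 by omega), zero_add]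
        simp [h]
    obtain ⟨fa0, fa1, fc0, fc1⟩ := factors_nonneg (l := L + 1) (by omega)
    have hp0 : ∀ (P : ℕ → Prop) [DecidablePred P] (k : ℕ),
        0 ≤ ∑ p ∈ entries F n, (if P p.1 then y ^ wtE k p else 0) :=
      fun P _ k => Finset.sum_nonneg fun p _ => by split_ifs <;> positivity
    have hT : ∑ v ∈ rest F n L, (((cpair (av v) L).1 : ℚ) + (cpair (av v) L).2) * y ^ wt L v ≤ nn L + yy L := by
      refine le_trans (le_of_eq ?_) (add_le_add ihN ihY)
      rw [← Finset.sum_add_distrib]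
      exact Finset.sum_congr rfl fun v _ => by ring
    have hT2 : ∑ v ∈ rest F n L, (2 * ((cpair (av v) L).1 : ℚ) + (cpair (av v) L).2) * y ^ wt L v ≤
        2 * nn L + yy L := by
      refine le_trans (le_of_eq ?_) (add_le_add (mul_le_mul_of_nonneg_left ihN zero_le_two) ihY)
      rw [Finset.mul_sum, ← Finset.sum_add_distrib]
      exact Finset.sum_congr rfl fun v _ => by ring
    have hA : ∀ (A : (ℕ → ℕ × F[X]) → ℚ), (∀ v, 0 ≤ A v) → 0 ≤ ∑ v ∈ rest F n L, A v * y ^ wt L v :=
      fun A h => Finset.sum_nonneg fun v _ => mul_nonneg (h v) (by positivity)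
    constructor
    · rw [nn_succ]
      refine (himg _ fun v => by positivity).trans ?_
      calc _ = ∑ v ∈ rest F n L, ∑ p ∈ entries F n, ∑ r ∈ entries F n,
            (((cpair (av v) L).1 : ℚ) + (cpair (av v) L).2) * y ^ wt L v *
            ((if Even p.1 then y ^ wtE (2 * (L + 1)) p else 0) * (if r.1 = 0 then y ^ wtE (2 * (L + 1) + 1) r else 0)) := by
            refine Finset.sum_congr rfl fun v _ => Finset.sum_congr rfl fun p _ => Finset.sum_congr rfl fun r _ => ?_
            rw [hc, hw]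
            by_cases h1 : Even p.1 <;> by_cases h2 : r.1 = 0 <;> simp [h1, h2] <;> ring
        _ = _ := hfact _ Even (· = 0)
        _ ≤ (nn L + yy L) * (a0 (L + 1) * c0 (L + 1)) :=
            mul_le_mul hT (mul_le_mul hA0 hC0 (hp0 (· = 0) _) fa0) (mul_nonneg (hp0 Even _) (hp0 (· = 0) _)) (by linarith)
        _ = _ := by ring
    · rw [yy_succ]
      refine (himg _ fun v => by positivity).trans ?_
      calc _ = 2 * (∑ v ∈ rest F n L, ∑ p ∈ entries F n, ∑ r ∈ entries F n,
            (((cpair (av v) L).1 : ℚ) + (cpair (av v) L).2) * y ^ wt L v *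
            ((if Even p.1 then y ^ wtE (2 * (L + 1)) p else 0) *
              (if 0 < r.1 ∧ Even r.1 then y ^ wtE (2 * (L + 1) + 1) r else 0))) +
            ∑ v ∈ rest F n L, ∑ p ∈ entries F n, ∑ r ∈ entries F n,
            (2 * ((cpair (av v) L).1 : ℚ) + (cpair (av v) L).2) * y ^ wt L v *
            ((if 0 < p.1 then y ^ wtE (2 * (L + 1)) p else 0) * (if Even r.1 then y ^ wtE (2 * (L + 1) + 1) r else 0)) := by
            simp only [Finset.mul_sum, ← Finset.sum_add_distrib]
            refine Finset.sum_congr rfl fun v _ => Finset.sum_congr rfl fun p _ => Finset.sum_congr rfl fun r _ => ?_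
            rw [hc, hw]
            by_cases h1 : Even p.1 <;> by_cases h2 : 0 < p.1 <;> by_cases h3 : 0 < r.1 <;>
              by_cases h4 : Even r.1 <;> simp [h1, h2, h3, h4] <;> ring
        _ ≤ 2 * ((nn L + yy L) * (a0 (L + 1) * c1 (L + 1))) +
            (2 * nn L + yy L) * (a1 (L + 1) * (c0 (L + 1) + c1 (L + 1))) := by
            rw [hfact _ Even (fun a => 0 < a ∧ Even a), hfact _ (0 < ·) Even]
            refine add_le_add (mul_le_mul_of_nonneg_left ?_ zero_le_two) ?_
            · exact mul_le_mul hT (mul_le_mul hA0 hC1 (hp0 (fun a => 0 < a ∧ Even a) _) fa0)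
                (mul_nonneg (hp0 Even _) (hp0 (fun a => 0 < a ∧ Even a) _)) (by linarith)
            · exact mul_le_mul hT2 (mul_le_mul hA1 hC (hp0 Even _) fa1)
                (mul_nonneg (hp0 (0 < ·) _) (hp0 Even _)) (by linarith)
        _ = _ := by ring

end sums

/-! ### All tuples -/

variable (F) in
/-- tuples with total half weight `n` -/
noncomputable def allT (n L : ℕ) : Finset (ℕ → ℕ × F[X]) := by
  classical
  exact ((rest F n L).filter fun v => wt L v ≤ n).biUnion fun v =>
    (srSet F (2 * (n - wt L v))).image fun p => Function.update v 1 (0, p)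

theorem sum_allT_le (n L : ℕ) (hL : 14 ≤ L) :
    5 * ∑ u ∈ allT F n L, ctot (av u) L ≤ 76 * Fintype.card F ^ n := by
  classical
  set q := Fintype.card F with hq
  have hq2 : 2 ≤ q := Fintype.one_lt_card
  have hqQ : (2 : ℚ) ≤ q := by exact_mod_cast hq2
  set y : ℚ := 1 / q with hy
  have hy0 : 0 < y := by positivity
  have hy2 : y ≤ 1 / 2 := one_div_le_one_div_of_le two_pos hqQ
  have hqy : (q : ℚ) * y = 1 := by rw [hy]; field_simp
  obtain ⟨hN, hY⟩ := rest_le (F := F) hy0 hy2 hqy n L
  rw [← Nat.cast_le (α := ℚ)]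
  simp only [Nat.cast_mul, Nat.cast_sum, Nat.cast_pow, Nat.cast_ofNat]
  have h1 : ∑ u ∈ allT F n L, (ctot (av u) L : ℚ) ≤
      ∑ v ∈ rest F n L, (q : ℚ) ^ n * ((ctot (av v) L : ℚ) * y ^ wt L v) := by
    refine (sum_biUnion_le' _ _ _ fun u => Nat.cast_nonneg _).trans ?_
    refine le_trans (Finset.sum_le_sum fun v hv => ?_)
      (Finset.sum_le_sum_of_subset_of_nonneg (Finset.filter_subset _ _) fun v _ _ => by positivity)
    have hle := (Finset.mem_filter.1 hv).2
    refine (Finset.sum_image_le_of_nonneg fun u _ => Nat.cast_nonneg _).trans ?_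
    have e : ∀ p ∈ srSet F (2 * (n - wt L v)), (ctot (av (Function.update v 1 (0, p))) L : ℚ) = ctot (av v) L := by
      intro p _
      refine congrArg Nat.cast (ctot_congr fun s hs _ => ?_)
      rw [av, av, Function.update_of_ne (by omega)]
    rw [Finset.sum_congr rfl e, Finset.sum_const, nsmul_eq_mul]
    have h2 : ((srSet F (2 * (n - wt L v))).card : ℚ) ≤ (q : ℚ) ^ n * y ^ wt L v := by
      refine (show ((srSet F (2 * (n - wt L v))).card : ℚ) ≤ (q : ℚ) ^ (n - wt L v) by
        exact_mod_cast card_sr_le (F := F) (n - wt L v)).trans (le_of_eq ?_)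
      conv_rhs => rw [show n = n - wt L v + wt L v by omega, pow_add, mul_assoc, ← mul_pow, hqy, one_pow, mul_one]
    exact (mul_le_mul_of_nonneg_right h2 (Nat.cast_nonneg _)).trans (le_of_eq (by ring))
  have h3 : ∑ v ∈ rest F n L, (ctot (av v) L : ℚ) * y ^ wt L v ≤ 76 / 5 := by
    refine le_trans (le_of_eq ?_) ((add_le_add hN hY).trans (tot_le hL))
    rw [← Finset.sum_add_distrib]
    exact Finset.sum_congr rfl fun v _ => by rw [ctot, Nat.cast_add]; ring
  rw [← Finset.mul_sum] at h1
  calc 5 * ∑ u ∈ allT F n L, (ctot (av u) L : ℚ) ≤ 5 * ((q : ℚ) ^ n * (76 / 5)) :=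
        mul_le_mul_of_nonneg_left (h1.trans (mul_le_mul_of_nonneg_left h3 (by positivity))) (by norm_num)
    _ = _ := by ring

end SpEvenCount2557
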