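import Cfsg.Agent.GLClassCount.Main
import Cfsg.Agent.SUClassCount.Group
import Cfsg.Agent.SpClassCount.Count
import Cfsg.Agent.GenA.SpEvenClassCount.Tuples

/-!
The classes of `Sp(2n, q)`, `q` even.
-/

set_option autoImplicit false
set_option linter.unusedSectionVars false

universe u

namespace SpEvenCount2557

open Polynomial Module GLClassCount2478 SUClassCount2481 SpClassCount2482

variable {F : Type u} [Field F] [Fintype F] [CharP F 2] {n : ℕ}

/-! ### From the group to the forms -/

lemma Jn_alt (x : Fin (n + n) → F) : x ⬝ᵥ (Jn F n).mulVec x = 0 := by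
  set z := x ∘ (finSumFinEquiv : Fin n ⊕ Fin n ≃ Fin (n + n)) with hz
  have h : x ⬝ᵥ (Jn F n).mulVec x = z ⬝ᵥ (Matrix.J (Fin n) F).mulVec z := by
    rw [Jn, reix, Matrix.reindexAlgEquiv_apply, Matrix.reindex_apply, Matrix.submatrix_mulVec_equiv, hz,
      Equiv.symm_symm]
    simp only [dotProduct]
    rw [← Equiv.sum_comp finSumFinEquiv]
    simp
  rw [h, Matrix.J, Matrix.fromBlocks_mulVec, dotProduct, Fintype.sum_sum_type]
  simp only [Matrix.zero_mulVec, zero_add, add_zero, Sum.elim_inl, Sum.elim_inr, Matrix.neg_mulVec, Matrix.one_mulVec,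
    Function.comp_apply, Pi.neg_apply]
  rw [← Finset.sum_add_distrib]
  exact Finset.sum_eq_zero fun i _ => by ring

lemma formOf_isInv_two {g : GL (Fin (n + n)) F}
    (hg : (g : Matrix (Fin (n + n)) (Fin (n + n)) F).transpose * Jn F n * g = Jn F n) : IsInv (formOf g) := by
  have hsurj := (Module.AEval'.of (Matrix.toLin' (g : Matrix (Fin (n + n)) (Fin (n + n)) F))).surjective
  refine ⟨fun a => ?_, fun a b => ?_⟩
  · obtain ⟨x, rfl⟩ := hsurj a
    rw [formOf_of]
    exact Jn_alt x
  · obtain ⟨x, rfl⟩ := hsurj a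
    obtain ⟨y, rfl⟩ := hsurj b
    rw [Module.AEval'.X_smul_of, Module.AEval'.X_smul_of, Matrix.toLin'_apply, Matrix.toLin'_apply, formOf_of,
      formOf_of]
    conv_rhs => rw [← hg, ← Matrix.mulVec_mulVec, ← Matrix.mulVec_mulVec, Matrix.dotProduct_mulVec x,
      Matrix.vecMul_transpose]

/-- the object of a symplectic element -/
noncomputable def objTwo (y : ↥(Matrix.symplecticGroup (Fin n) F)) : SObj F :=
  haveI : Finite (modOf (spGL F n y)) :=
    Finite.of_equiv _ (Module.AEval'.of (Matrix.toLin' (spGL F n y : Matrix (Fin (n + n)) (Fin (n + n)) F))).toEquiv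
  ⟨modOf (spGL F n y), formOf (spGL F n y), formOf_isInv_two (spGL_form y), formOf_nondeg _⟩

lemma isConj_of_isom_two {y z : ↥(Matrix.symplecticGroup (Fin n) F)}
    (h : Isom (objTwo y) (objTwo z)) : IsConj y z := by
  obtain ⟨e₀, he₀⟩ := h
  let e : modOf (spGL F n y) ≃ₗ[F[X]] modOf (spGL F n z) := e₀
  have he : ∀ a b, formOf (spGL F n z) (e a) (e b) = formOf (spGL F n y) a b := he₀
  let a := Module.AEval'.of (Matrix.toLin' (spGL F n y : Matrix (Fin (n + n)) (Fin (n + n)) F))
  let b := Module.AEval'.of (Matrix.toLin' (spGL F n z : Matrix (Fin (n + n)) (Fin (n + n)) F))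
  let φ : (Fin (n + n) → F) →ₗ[F] (Fin (n + n) → F) :=
    b.symm.toLinearMap.comp ((e.toLinearMap.restrictScalars F).comp a.toLinearMap)
  set c := LinearMap.toMatrix' φ with hc
  have hcv : ∀ v, b (c.mulVec v) = e (a v) := fun v => by
    rw [hc, LinearMap.toMatrix'_mulVec]
    show b (b.symm (e (a v))) = _
    rw [LinearEquiv.apply_symm_apply]
  have hcomm : c * (spGL F n y : Matrix (Fin (n + n)) (Fin (n + n)) F) = (spGL F n z : Matrix (Fin (n + n)) (Fin (n + n)) F) * c := by
    refine Matrix.toLin'.injective (LinearMap.ext fun v => b.injective ?_)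
    rw [Matrix.toLin'_apply, Matrix.toLin'_apply, ← Matrix.mulVec_mulVec, ← Matrix.mulVec_mulVec, hcv,
      ← Matrix.toLin'_apply, ← Matrix.toLin'_apply]
    show e (a _) = b _
    rw [← Module.AEval'.X_smul_of, ← Module.AEval'.X_smul_of]
    show e ((Polynomial.X : F[X]) • a v) = (Polynomial.X : F[X]) • b (c.mulVec v)
    rw [map_smul, hcv]
  have hform : c.transpose * Jn F n * c = Jn F n := by
    refine Matrix.toBilin'.injective (LinearMap.ext fun x => LinearMap.ext fun w => ?_)
    rw [Matrix.toBilin'_apply', Matrix.toBilin'_apply', ← Matrix.mulVec_mulVec, ← Matrix.mulVec_mulVec,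
      Matrix.dotProduct_mulVec x, Matrix.vecMul_transpose]
    have h1 : formOf (spGL F n z) (e (a x)) (e (a w)) = formOf (spGL F n y) (a x) (a w) := he (a x) (a w)
    rw [← hcv, ← hcv] at h1
    rw [← formOf_of (spGL F n z), ← formOf_of (spGL F n y)]
    exact h1
  obtain ⟨M, hM⟩ : ∃ M, reix F n M = c := ⟨(reix F n).symm c, AlgEquiv.apply_symm_apply _ _⟩
  have hMs : M ∈ Matrix.symplecticGroup (Fin n) F := by
    rw [SymplecticGroup.mem_iff']
    refine (reix F n).injective ?_
    rw [map_mul, map_mul, reix_transpose, hM]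
    exact hform
  refine isConj_iff.2 ⟨⟨M, hMs⟩, mul_inv_eq_iff_eq_mul.2 (Subtype.ext ((reix F n).injective ?_))⟩
  show reix F n (M * (y : Matrix (Fin n ⊕ Fin n) (Fin n ⊕ Fin n) F)) = reix F n ((z : Matrix (Fin n ⊕ Fin n) (Fin n ⊕ Fin n) F) * M)
  rw [map_mul, map_mul, hM]
  exact hcomm

/-! ### The tuple of the data -/

/-- the product of the parts of size `k` different from `X - 1` -/
noncomputable def gpart (D : Multiset (F[X] × ℕ)) (k : ℕ) : F[X] := by
  classical
  exact prodk (D.filter fun x => x.1 ≠ ee F) k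

lemma prodk_eq (D : Multiset (F[X] × ℕ)) (k : ℕ) : prodk D k = ee F ^ mult D k * gpart D k := by
  classical
  conv_lhs => rw [← Multiset.filter_add_not (fun x => x.1 = ee F) D, prodk_add]
  congr 1
  rw [prodk, mult, Multiset.filter_filter,
    show (D.filter fun x => x.2 = k ∧ x.1 = ee F) = D.filter (fun x => x = (ee F, k)) from
      Multiset.filter_congr fun x _ => by rw [Prod.ext_iff]; exact and_comm,
    Multiset.filter_eq', Multiset.map_replicate, Multiset.prod_replicate]

/-- the tuple of the data -/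
noncomputable def tup (D : Multiset (F[X] × ℕ)) (k : ℕ) : ℕ × F[X] :=
  if k = 1 then (0, prodk D 1) else (mult D k, gpart D k)

lemma prodk_of_tup {D D' : Multiset (F[X] × ℕ)} (h : tup D = tup D') {k : ℕ} (hk : 1 ≤ k) :
    prodk D k = prodk D' k := by
  have hk' := congrFun h k
  by_cases h1 : k = 1
  · subst h1
    exact congrArg Prod.snd hk'
  · simp only [tup, if_neg h1, Prod.mk.injEq] at hk'
    rw [prodk_eq, prodk_eq, hk'.1, hk'.2]

lemma sum_prodk (D : Multiset (F[X] × ℕ)) {M : ℕ} (hD : ∀ x ∈ D, x.1.Monic ∧ x.2 < M) :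
    ∑ k ∈ Finset.range M, k * (prodk D k).natDegree = dim' D := by
  classical
  induction D using Multiset.induction_on with
  | empty => simp [prodk, dim']
  | cons x t ih =>
    obtain ⟨hx, hxM⟩ := hD x (Multiset.mem_cons_self _ _)
    have ht : ∀ y ∈ t, y.1.Monic ∧ y.2 < M := fun y hy => hD y (Multiset.mem_cons_of_mem hy)
    have hmon : ∀ k, (prodk t k).Monic := fun k => by
      rw [prodk]
      refine monic_multiset_prod_of_monic _ _ fun y hy => ?_
      exact (ht y (Multiset.mem_filter.1 hy).1).1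
    have e : ∀ k, k * (prodk (x ::ₘ t) k).natDegree =
        (if k = x.2 then x.2 * x.1.natDegree else 0) + k * (prodk t k).natDegree := by
      intro k
      rw [← Multiset.singleton_add, prodk_add]
      by_cases hk : k = x.2
      · subst hk
        rw [if_pos rfl, show prodk ({x} : Multiset (F[X] × ℕ)) x.2 = x.1 by simp [prodk, Multiset.filter_singleton],
          hx.natDegree_mul (hmon _), mul_add]
      · rw [if_neg hk, show prodk ({x} : Multiset (F[X] × ℕ)) k = 1 by
          simp [prodk, Multiset.filter_singleton, Ne.symm hk], one_mul, zero_add]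
    rw [Finset.sum_congr rfl fun k _ => e k, Finset.sum_add_distrib, Finset.sum_ite_eq' _ x.2,
      if_pos (Finset.mem_range.2 hxM), ih ht, dim', dim', Multiset.map_cons, Multiset.sum_cons]

lemma sum_pairs (f : ℕ → ℕ) : ∀ L, ∑ k ∈ Finset.range (2 * L + 2), f k =
    f 0 + f 1 + ∑ l ∈ Finset.range L, (f (2 * l + 2) + f (2 * l + 3))
  | 0 => by simp [Finset.sum_range_succ]
  | L + 1 => by
    rw [show 2 * (L + 1) + 2 = 2 * L + 2 + 1 + 1 by ring, Finset.sum_range_succ, Finset.sum_range_succ, sum_pairs f L,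
      Finset.sum_range_succ _ L]
    ring

lemma SR_ee_pow : ∀ a : ℕ, SR (ee F ^ a)
  | 0 => by rw [pow_zero]; exact SR_one
  | a + 1 => by rw [pow_succ]; exact (SR_ee_pow a).mul (X_sub_C_SR (mul_one 1))

theorem tup_mem {D : Multiset (F[X] × ℕ)} {S : Finset ℕ} {n L : ℕ} (hL : n ≤ L)
    (hD : ∀ x ∈ D, x.1.Monic ∧ Irreducible x.1 ∧ 1 ≤ x.2) (hdim : dim' D = n + n) (hgood : Good D)
    (hC : Compat D S) (hS : ∀ s ∈ S, Even s) : tup D ∈ allT F n L := by
  classical
  haveI : Finite F := Finite.of_fintype F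
  have hsize : ∀ x ∈ D, x.2 ≤ n + n := by
    intro x hx
    calc x.2 ≤ x.2 * x.1.natDegree := Nat.le_mul_of_pos_right _ (hD x hx).2.1.natDegree_pos
      _ ≤ dim' D := Multiset.le_sum_of_mem (Multiset.mem_map_of_mem (fun x => x.2 * x.1.natDegree) hx)
      _ = _ := hdim
  have hg1 : ∀ k, (gpart D k).eval 1 ≠ 0 := by
    intro k
    rw [gpart, prodk, eval_multiset_prod]
    refine Multiset.prod_ne_zero fun h => ?_
    rw [Multiset.map_map, Multiset.mem_map] at h
    obtain ⟨x, hx, h0⟩ := h
    obtain ⟨hx, -⟩ := Multiset.mem_filter.1 hx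
    obtain ⟨hx, hne⟩ := Multiset.mem_filter.1 hx
    exact eval_one_ne (hD x hx).1 (hD x hx).2.1 hne h0
  have hgSR : ∀ k, SR (gpart D k) := fun k => (SR_ee_pow (mult D k)).of_mul (by rw [← prodk_eq]; exact (hgood k).1)
  have hgev : ∀ k, Even (gpart D k).natDegree := fun k => by
    by_contra h
    exact hg1 k (eval_one_of_odd (hgSR k) (Nat.not_even_iff_odd.1 h))
  have hdeg : ∀ k, (prodk D k).natDegree = mult D k + (gpart D k).natDegree := fun k => by
    rw [prodk_eq, ((monic_X_sub_C (1 : F)).pow _).natDegree_mul (hgSR k).1, natDegree_pow, natDegree_X_sub_C, mul_one]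
  have hodd : ∀ k, Odd k → Even (mult D k) := fun k hk => (hC k).2 fun h => Nat.not_even_iff_odd.2 hk (hS k h)
  have hwt : ∀ k, 2 ≤ k → 2 * wtE k (tup D k) = k * (prodk D k).natDegree := by
    intro k hk
    rw [tup, if_neg (by omega), wtE, hdeg]
    dsimp only
    split_ifs with h
    · rw [← mul_assoc, show 2 * (k / 2) = k by omega]
    · obtain ⟨c, hc⟩ := (hodd k (Nat.odd_iff.2 (by omega))).add (hgev k)
      rw [hc, show (c + c) / 2 = c by omega]
      ring
  have hsum : (prodk D 1).natDegree + 2 * wt L (tup D) = n + n := by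
    rw [← hdim, ← sum_prodk D (M := 2 * L + 2) (fun x hx => ⟨(hD x hx).1, by have := hsize x hx; omega⟩), sum_pairs,
      zero_mul, one_mul, zero_add, wt, Finset.mul_sum]
    congr 1
    refine Finset.sum_congr rfl fun l _ => ?_
    rw [mul_add, hwt _ (by omega), hwt _ (by omega)]
  set v := Function.update (tup D) 1 (0, 1) with hv
  have hwv : wt L v = wt L (tup D) := wt_congr fun s hs _ => Function.update_of_ne (by omega) _ _
  have hout : ∀ k, k < 2 ∨ 2 * L + 1 < k → v k = (0, 1) := by
    intro k hk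
    by_cases h1 : k = 1
    · subst h1; rw [hv, Function.update_self]
    rw [hv, Function.update_of_ne h1, tup, if_neg h1]
    have hnone : ∀ x ∈ D, x.2 ≠ k := fun x hx => by
      have := hsize x hx
      have := (hD x hx).2.2
      omega
    refine Prod.ext (mult_eq_zero fun h => hnone _ h rfl) ?_
    show gpart D k = 1
    rw [gpart, prodk, Multiset.filter_eq_nil.2 fun x hx => hnone x (Multiset.mem_of_mem_filter hx)]
    rfl
  have hin : ∀ k, 2 ≤ k → k ≤ 2 * L + 1 → v k ∈ entries F n := by
    intro k h1 h2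
    rw [hv, Function.update_of_ne (by omega), tup, if_neg (by omega)]
    have hb : k * (prodk D k).natDegree ≤ n + n := by
      rw [← hdim, ← sum_prodk D (M := 2 * L + 2) (fun x hx => ⟨(hD x hx).1, by have := hsize x hx; omega⟩)]
      exact Finset.single_le_sum (f := fun k => k * (prodk D k).natDegree) (fun _ _ => Nat.zero_le _)
        (Finset.mem_range.2 (by omega))
    have hb' : 2 * (mult D k + (gpart D k).natDegree) ≤ n + n := by
      rw [← hdeg]; exact (Nat.mul_le_mul_right _ h1).trans hb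
    rw [entries, Finset.mem_product, gAll, Finset.mem_range, Finset.mem_biUnion]
    exact ⟨by dsimp only; omega, (gpart D k).natDegree / 2, Finset.mem_range.2 (by omega), mem_gSet (hgSR k) (hg1 k)⟩
  simp only [allT, Finset.mem_biUnion, Finset.mem_filter, Finset.mem_image]
  refine ⟨v, ⟨mem_rest n L v hout hin, by omega⟩, prodk D 1, mem_srSet.2 ⟨(hgood 1).1, by omega⟩, ?_⟩
  rw [hv, Function.update_idem, Function.update_eq_self_iff, tup, if_pos rfl]

/-! ### The bound -/

theorem card_classes_le (e : ℕ) :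
    Nat.card (ConjClasses ↥(Matrix.symplecticGroup (Fin (e + 1)) F)) ≤
      ∑ u ∈ allT F (e + 1) (e + 15), ctot (av u) (e + 15) := by
  classical
  haveI : Finite F := Finite.of_fintype F
  haveI : Fintype (ConjClasses (GL (Fin (e + 1 + (e + 1))) F)) := Fintype.ofFinite _
  let π : ConjClasses ↥(Matrix.symplecticGroup (Fin (e + 1)) F) → ConjClasses (GL (Fin (e + 1 + (e + 1))) F) :=
    ConjClasses.map (spGL F (e + 1))
  obtain ⟨v, hinj, hv⟩ := exists_tuples (F := F) (n := e + 1 + (e + 1))
  choose g ι hι P hgC hP hsum hiso hvP using fun C => (hv C).2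
  let Dd : ConjClasses (GL (Fin (e + 1 + (e + 1))) F) → Multiset (F[X] × ℕ) :=
    fun C => (Finset.univ : Finset (ι C)).val.map (P C)
  set L := e + 15 with hL
  have hprod : ∀ C (k : Fin (e + 1 + (e + 1))), prodk (Dd C) ((k : ℕ) + 1) = v C k := fun C k => by
    rw [hvP C k, prodk, Multiset.filter_map, Multiset.map_map, Finset.prod_eq_multiset_prod, Finset.filter_val]
    rfl
  have hinj' : Function.Injective fun C => tup (Dd C) := fun C C' h => hinj (funext fun k => by
    rw [← hprod, ← hprod]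
    exact prodk_of_tup h (by omega))
  have hfib : ∀ C, Nat.card {x // π x = C} ≤
      if tup (Dd C) ∈ allT F (e + 1) L then ctot (av (tup (Dd C))) L else 0 := by
    intro C
    rcases isEmpty_or_nonempty {x // π x = C} with h | ⟨⟨x₀, hx₀⟩⟩
    · rw [Nat.card_of_isEmpty]; exact Nat.zero_le _
    set D := Dd C with hDdef
    have hblocks : ∀ x ∈ D, x.1.Monic ∧ Irreducible x.1 ∧ 1 ≤ x.2 := fun x hx => by
      obtain ⟨i, -, rfl⟩ := Multiset.mem_map.1 hx
      exact ⟨(hP C i).1, (hP C i).2.1, (hP C i).2.2.1⟩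
    have hdim : dim' D = e + 1 + (e + 1) := by
      rw [dim', hDdef, Multiset.map_map]
      exact hsum C
    have hsize : ∀ x ∈ D, x.2 ≤ e + 1 + (e + 1) := fun x hx => by
      calc x.2 ≤ x.2 * x.1.natDegree := Nat.le_mul_of_pos_right _ (hblocks x hx).2.1.natDegree_pos
        _ ≤ dim' D := Multiset.le_sum_of_mem (Multiset.mem_map_of_mem (fun x => x.2 * x.1.natDegree) hx)
        _ = _ := hdim
    have hpi : HasData (∀ i, blk (P C i)) D := by
      refine ⟨?_, fun f hf hi k => ?_⟩
      · rw [Nat.card_pi, dim', hDdef, Multiset.map_map]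
        refine Eq.trans ?_ (Finset.prod_pow_eq_pow_sum _ _ _)
        refine Finset.prod_congr rfl fun i _ => ?_
        show Nat.card (blk (P C i)) = _
        rw [natCard_quot ((hP C i).1.pow _), natDegree_pow, Nat.card_eq_fintype_card]
        rfl
      · rw [kc_pi, sx, hDdef, Multiset.map_map]
        refine Eq.trans ?_ (Finset.prod_pow_eq_pow_sum _ _ _)
        refine Finset.prod_congr rfl fun i _ => ?_
        rw [kc_blk hf hi (hP C i).1 (hP C i).2.1 k, Nat.card_eq_fintype_card]
        rfl
    obtain ⟨E⟩ := hiso C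
    have hdata : ∀ y, π (ConjClasses.mk y) = C → HasData (objTwo y).M D := by
      intro y hy
      obtain ⟨h, hh⟩ := isConj_iff.1 (ConjClasses.mk_eq_mk_iff_isConj.1
        (show ConjClasses.mk (spGL F (e + 1) y) = ConjClasses.mk (g C) from hy.trans (hgC C).symm))
      obtain ⟨E'⟩ := nonempty_iso_of_conj hh
      exact hpi.congr (E'.trans E).symm
    choose rep hrep using fun x : {x // π x = C} => ConjClasses.mk_surjective x.1
    have hobj : ∀ x, HasData (objTwo (rep x)).M D := fun x => hdata _ (by rw [hrep]; exact x.2)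
    choose lab hlab using fun x => exists_lab (hobj x)
    have hmain : ∀ x, Main D (lab x) := fun x => classify _ D rfl hblocks _ _ (hobj x) (hlab x)
    have hEven : ∀ x, ∀ s ∈ lab x, Even s ∧ 2 ≤ s ∧ s ≤ e + 1 + (e + 1) := fun x s hs =>
      ⟨(eps_even ((hlab x s).1 hs)).1, (eps_even ((hlab x s).1 hs)).2, eps_le (hobj x) hsize ((hlab x s).1 hs)⟩
    have hmemlab : ∀ x, lab x ∈ labs (mult D) L := fun x =>
      mem_labs (fun s hs => by obtain ⟨h1, h2, h3⟩ := hEven x s hs; exact ⟨h1, h2, by omega⟩)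
        fun s _ _ => (hmain x).2.1 s
    rw [if_pos (tup_mem (S := lab ⟨x₀, hx₀⟩) (by omega) hblocks hdim (hmain ⟨x₀, hx₀⟩).1 (hmain _).2.1
      fun s hs => (hEven _ s hs).1)]
    haveI : Fintype {x // π x = C} := Fintype.ofFinite _
    rw [Nat.card_eq_fintype_card, ← Finset.card_univ,
      Finset.card_eq_sum_card_fiberwise (f := lab) (t := labs (mult D) L) fun x _ => hmemlab x,
      ctot_congr (a := av (tup D)) (a' := mult D) fun s hs _ => by rw [av, tup, if_neg (by omega)]]
    refine le_trans (Finset.sum_le_sum fun S _ => ?_) (sum_wgt_le _ _)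
    rcases Finset.eq_empty_or_nonempty (Finset.univ.filter fun x => lab x = S) with h0 | ⟨z, hz⟩
    · rw [h0, Finset.card_empty]; exact Nat.zero_le _
    have hzS : lab z = S := (Finset.mem_filter.1 hz).2
    refine le_trans (b := W D S) ?_ ?_
    · by_contra hlt
      push Not at hlt
      rw [← Fintype.card_subtype] at hlt
      let ε := Fintype.equivFin {x // lab x = S}
      obtain ⟨i, j, hij, hisom⟩ := (hzS ▸ (hmain z).2.2) (Fin (Fintype.card {x // lab x = S}))
        (fun i => objTwo (rep (ε.symm i).1))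
        (fun i => ⟨hobj _, fun s => by rw [← hlab (ε.symm i).1 s, (ε.symm i).2]⟩) (by rwa [Fintype.card_fin])
      refine hij (ε.symm.injective (Subtype.ext (Subtype.ext ?_)))
      rw [← hrep, ← hrep, ConjClasses.mk_eq_mk_iff_isConj]
      exact isConj_of_isom_two hisom
    · refine pow_card_le_wgt (bits D S) (fun s hs => mem_bits.1 hs) fun s hs => ?_
      rcases mem_bits.1 hs with ⟨h1, h2, -⟩ | ⟨-, h2, h3, -⟩
      · have := (hEven z s (hzS ▸ h1)).2.2
        omega
      · have h4 : s ≤ e + 1 + (e + 1) := hsize _ (mult_pos.1 h3)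
        omega
  have hsplit : Nat.card (ConjClasses ↥(Matrix.symplecticGroup (Fin (e + 1)) F)) = ∑ C, Nat.card {x // π x = C} := by
    rw [← Nat.card_sigma]; exact (Nat.card_congr (Equiv.sigmaFiberEquiv π)).symm
  rw [hsplit]
  calc ∑ C, Nat.card {x // π x = C}
      ≤ ∑ C, if tup (Dd C) ∈ allT F (e + 1) L then ctot (av (tup (Dd C))) L else 0 :=
        Finset.sum_le_sum fun C _ => hfib C
    _ = ∑ u ∈ (Finset.univ.filter fun C => tup (Dd C) ∈ allT F (e + 1) L).image fun C => tup (Dd C),
          ctot (av u) L := by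
        rw [← Finset.sum_filter, Finset.sum_image (g := fun C => tup (Dd C)) fun C _ C' _ h => hinj' h]
    _ ≤ _ := Finset.sum_le_sum_of_subset fun u hu => by
        obtain ⟨C, hC, rfl⟩ := Finset.mem_image.1 hu
        exact (Finset.mem_filter.1 hC).2

/-- the upper bound for `q` even -/
theorem card_classes_bound (e : ℕ) :
    5 * Nat.card (ConjClasses ↥(Matrix.symplecticGroup (Fin (e + 1)) F)) ≤ 76 * Fintype.card F ^ (e + 1) :=
  (Nat.mul_le_mul_left 5 (card_classes_le e)).trans (sum_allT_le (e + 1) (e + 15) (by omega))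

end SpEvenCount2557
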