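import Cfsg.Agent.GenA.SpEvenClassCount.Basic

/-!
The indecomposable unipotent pieces in characteristic two and their normal forms.
-/

set_option autoImplicit false
set_option linter.unusedSectionVars false

universe u

namespace SpEvenCount2557

open Polynomial Module GLClassCount2478 SUClassCount2481 SpClassCount2482

variable {F : Type u} [Field F] [CharP F 2] {N m : ℕ}

section general

variable {M : Type u} [AddCommGroup M] [Module F M] [Module F[X] M] [IsScalarTower F F[X] M]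
  {B B₁ B₂ : M →ₗ[F] M →ₗ[F] F}

lemma kill_of_le (hkill : ∀ x : M, ee F ^ m • x = 0) {k : ℕ} (hk : m ≤ k) (x : M) : ee F ^ k • x = 0 := by
  obtain ⟨d, rfl⟩ := Nat.exists_eq_add_of_le hk
  rw [pow_add, mul_comm, ← smul_smul, hkill, smul_zero]

lemma cc_kill (hkill : ∀ x : M, ee F ^ m • x = 0) {k : ℕ} (hk : m ≤ k) (B : M →ₗ[F] M →ₗ[F] F) (x : M) :
    cc B k x = 0 := by
  rw [cc, kill_of_le hkill hk, map_zero, LinearMap.zero_apply]

lemma smul_left' (B : M →ₗ[F] M →ₗ[F] F) (l : F) (a b : M) : B (l • a) b = l * B a b := by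
  rw [map_smul B l a, LinearMap.smul_apply, smul_eq_mul]

lemma smul_right' (B : M →ₗ[F] M →ₗ[F] F) (l : F) (a b : M) : B a (l • b) = l * B a b := by
  rw [map_smul (B a) l b, smul_eq_mul]

lemma pow_smul' (k i : ℕ) (l : F) (x : M) : ee F ^ k • (l • ee F ^ i • x) = l • ee F ^ (k + i) • x := by
  rw [smul_comm, smul_smul, ← pow_add]

lemma cc_pow (B : M →ₗ[F] M →ₗ[F] F) (k i : ℕ) (x : M) :
    cc B k (ee F ^ i • x) = B (ee F ^ (k + i) • x) (ee F ^ i • x) := by
  rw [cc, smul_smul, ← pow_add]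

/-- a form is non-degenerate if its radical has no fixed vector -/
lemma nondeg_of_soc (hB : IsInv B) (hN : Period F M N) (hkill : ∀ x : M, ee F ^ m • x = 0)
    (h : ∀ z : M, ee F • z = 0 → (∀ y, B z y = 0) → z = 0) : Nondeg B := by
  have hrad : ∀ x : M, (∀ y, B x y = 0) → ∀ y, B (ee F • x) y = 0 := fun x hx y => by
    rw [hB.adj hN]; exact hx _
  have hi : ∀ i (x : M), ee F ^ i • x = 0 → (∀ y, B x y = 0) → x = 0 := by
    intro i
    induction i with
    | zero => intro x hx _; rwa [pow_zero, one_smul] at hx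
    | succ i ih =>
      intro x hx hx'
      refine h x (ih _ ?_ (hrad x hx')) hx'
      rwa [smul_smul, ← pow_succ]
  exact fun x hx => hi m x (hkill x) hx

/-- the comparison of two congruent parameters -/
lemma wp_of_iff [Finite F] {a b : F} {c : Bool} (ha : c = false ↔ Wp a) (hb : c = false ↔ Wp b) : Wp (a + b) := by
  cases c with
  | false => exact (ha.1 rfl).add (hb.1 rfl)
  | true =>
    obtain ⟨τ, -, hτ⟩ := exists_tau (F := F)
    have ha' : Wp (a + τ) := (hτ a).resolve_left fun h => absurd (ha.2 h) (by decide)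
    have hb' : Wp (b + τ) := (hτ b).resolve_left fun h => absurd (hb.2 h) (by decide)
    have := ha'.add hb'
    rwa [show a + τ + (b + τ) = a + b by linear_combination τ * CharTwo.two_eq_zero (R := F)] at this

section values

variable (h₁ : IsInv B₁) (h₂ : IsInv B₂) (hN : Period F M N) (hkill : ∀ x : M, ee F ^ m • x = 0)

include h₁ h₂ hN hkill

/-- the change of a single generator -/
lemma cyc_step {j : ℕ} (hj : Odd j) (hjm : j + 3 ≤ m) {u : M} (htop : cc B₁ (m - 1) u = 1) (t : F)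
    (hw : j + 3 = m → Wp (cc B₁ j u + t)) :
    ∃ u', cc B₁ j u' = t ∧ ∀ k, j < k → cc B₁ k u' = cc B₁ k u := by
  obtain ⟨i, hi, hi1⟩ : ∃ i, j + i = m - 2 ∧ 1 ≤ i := ⟨m - 2 - j, by omega, by omega⟩
  have hgt : ∀ (l : F) k, j < k → cc B₁ k (u + l • ee F ^ i • u) = cc B₁ k u := by
    intro l k hk
    rw [cc_add_of h₁ hN (by rw [pow_smul', kill_of_le hkill (by omega), smul_zero]),
      cc_smul h₁ hN, cc_pow, move_zero h₁ hN (kill_of_le hkill (by omega) u), mul_zero, add_zero]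
  have hat : ∀ l : F, cc B₁ j (u + l • ee F ^ i • u) =
      cc B₁ j u + l * l * (if j + 3 = m then 1 else 0) + l := by
    intro l
    rw [cc_add_odd h₁ hN hj (by rw [pow_smul', kill_of_le hkill (by omega), smul_zero]),
      cc_smul h₁ hN]
    congr 1
    · congr 2
      rw [cc_pow, moveE h₁ hN (kill_of_le hkill (by omega) u)]
      split_ifs with h
      · rw [show j + i + i = m - 1 by omega]; exact htop
      · exact cc_kill hkill (by omega) _ _
    · rw [pow_smul', smul_left', show j + 1 + i = m - 1 by omega]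
      exact (congrArg (l * ·) htop).trans (mul_one l)
  by_cases h : j + 3 = m
  · obtain ⟨l, hl⟩ := hw h
    refine ⟨u + l • ee F ^ i • u, ?_, hgt l⟩
    rw [hat, if_pos h, mul_one, add_assoc, hl, ← add_assoc, CharTwo.add_self_eq_zero, zero_add]
  · refine ⟨u + (cc B₁ j u + t) • ee F ^ i • u, ?_, hgt _⟩
    rw [hat, if_neg h, mul_zero, add_zero, ← add_assoc, CharTwo.add_self_eq_zero, zero_add]

/-- all values of one generator from the two highest ones -/
theorem cyc_values (hm : Even m) (hm2 : 2 ≤ m) {u₀ v : M} (ht₁ : cc B₁ (m - 1) u₀ = 1) (ht₂ : cc B₂ (m - 1) v = 1)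
    (hc : 4 ≤ m → Wp (cc B₁ (m - 3) u₀ + cc B₂ (m - 3) v)) : ∃ u, ∀ k, cc B₁ k u = cc B₂ k v := by
  have hstep : ∀ j, j + 2 ≤ m → (∃ u, (∀ k, j + 1 ≤ k → cc B₁ k u = cc B₂ k v) ∧ (m ≤ j + 3 → u = u₀)) →
      ∃ u, (∀ k, j ≤ k → cc B₁ k u = cc B₂ k v) ∧ (m ≤ j + 2 → u = u₀) := by
    rintro j hj ⟨u, hu, hu0⟩
    rcases Nat.even_or_odd j with he | ho
    · refine ⟨u, fun k hk => ?_, fun h => hu0 (by omega)⟩
      rcases eq_or_lt_of_le hk with rfl | hk
      · exact agree_even h₁ h₂ hN he hu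
      · exact hu k hk
    · have hj3 : j + 3 ≤ m := by
        obtain ⟨a, rfl⟩ := hm
        obtain ⟨b, rfl⟩ := ho
        omega
      have htop : cc B₁ (m - 1) u = 1 := by rw [hu _ (by omega), ht₂]
      obtain ⟨u', h1, h2⟩ := cyc_step h₁ h₂ hN hkill ho hj3 htop (cc B₂ j v) (fun h => by
        rw [hu0 (by omega)]
        have := hc (by obtain ⟨b, rfl⟩ := ho; omega)
        rwa [show m - 3 = j by omega] at this)
      refine ⟨u', fun k hk => ?_, fun h => by omega⟩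
      rcases eq_or_lt_of_le hk with rfl | hk
      · exact h1
      · rw [h2 k hk, hu k hk]
  have hall : ∀ d, d < m → ∃ u, (∀ k, m - 1 - d ≤ k → cc B₁ k u = cc B₂ k v) ∧ (m ≤ (m - 1 - d) + 2 → u = u₀) := by
    intro d
    induction d with
    | zero =>
      intro _
      refine ⟨u₀, fun k hk => ?_, fun _ => rfl⟩
      rcases eq_or_lt_of_le hk with rfl | hk
      · simp only [Nat.sub_zero]; rw [ht₁, ht₂]
      · rw [cc_kill hkill (by omega), cc_kill hkill (by omega)]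
    | succ d ih =>
      intro hd
      obtain ⟨u, hu, hu0⟩ := ih (by omega)
      refine hstep (m - 1 - (d + 1)) (by omega) ⟨u, fun k hk => hu k (by omega), fun h => hu0 (by omega)⟩
  obtain ⟨u, hu, -⟩ := hall (m - 1) (by omega)
  exact ⟨u, fun k => hu k (by omega)⟩

/-- the change of a generator of a pair by its partner -/
lemma diag_step {j : ℕ} (hj : Odd j) (hjm : j + 3 ≤ m) {u w : M} (htop : B₁ (ee F ^ (m - 1) • w) u = 1)
    (hw : cc B₁ (m - 1) w = 0) (t : F) :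
    ∃ u', cc B₁ j u' = t ∧ ∀ k, j < k → cc B₁ k u' = cc B₁ k u ∧
      B₁ (ee F ^ k • u') w = B₁ (ee F ^ k • u) w := by
  obtain ⟨i, hi, hi1⟩ : ∃ i, j + i = m - 2 ∧ 1 ≤ i := ⟨m - 2 - j, by omega, by omega⟩
  have hz : ∀ k, m - 1 ≤ k → cc B₁ k w = 0 := fun k hk => by
    rcases eq_or_lt_of_le hk with rfl | hk
    · exact hw
    · exact cc_kill hkill (by omega) _ _
  set l := cc B₁ j u + t with hl
  refine ⟨u + l • ee F ^ i • w, ?_, fun k hk => ⟨?_, ?_⟩⟩
  · have e1 : cc B₁ j (ee F ^ i • w) = 0 := by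
      rw [cc_pow, moveE h₁ hN (kill_of_le hkill (by omega) w)]
      exact hz _ (by omega)
    rw [cc_add_odd h₁ hN hj (by rw [pow_smul', kill_of_le hkill (by omega), smul_zero]),
      cc_smul h₁ hN, e1, mul_zero, add_zero, pow_smul', smul_left', show j + 1 + i = m - 1 by omega, htop, mul_one, hl, ← add_assoc, CharTwo.add_self_eq_zero, zero_add]
  · rw [cc_add_of h₁ hN (by rw [pow_smul', kill_of_le hkill (by omega), smul_zero]),
      cc_smul h₁ hN, cc_pow, move_zero h₁ hN (kill_of_le hkill (by omega) w), mul_zero, add_zero]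
  · rw [smul_add, map_add, LinearMap.add_apply, pow_smul', smul_left',
      show B₁ (ee F ^ (k + i) • w) w = 0 from hz _ (by omega), mul_zero, add_zero]

/-- the change of the second generator by itself -/
lemma cross_step {j : ℕ} (hjm : j + 2 ≤ m) {u w : M} (htop : B₁ (ee F ^ (m - 1) • u) w = 1) (t : F) :
    ∃ w', B₁ (ee F ^ j • u) w' = t ∧ (∀ k, j < k → B₁ (ee F ^ k • u) w' = B₁ (ee F ^ k • u) w) ∧
      ∀ k, j ≤ k → cc B₁ k w' = cc B₁ k w := by
  obtain ⟨i, hi, hi1⟩ : ∃ i, j + i = m - 1 ∧ 1 ≤ i := ⟨m - 1 - j, by omega, by omega⟩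
  set l := B₁ (ee F ^ j • u) w + t with hl
  refine ⟨w + l • ee F ^ i • w, ?_, fun k hk => ?_, fun k hk => ?_⟩
  · rw [map_add, smul_right', moveE h₁ hN (kill_of_le hkill (by omega) u), hi, htop, mul_one, hl,
      ← add_assoc, CharTwo.add_self_eq_zero, zero_add]
  · rw [map_add, smul_right', move_zero h₁ hN (kill_of_le hkill (by omega) u), mul_zero, add_zero]
  · rw [cc_add_of h₁ hN (by rw [pow_smul', kill_of_le hkill (by omega), smul_zero]),
      cc_smul h₁ hN, cc_pow, move_zero h₁ hN (kill_of_le hkill (by omega) w), mul_zero, add_zero]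

/-- all values of a pair from the highest ones -/
theorem pair_values (hm : 1 ≤ m) {u₀ w₀ a b : M}
    (hx₁ : B₁ (ee F ^ (m - 1) • u₀) w₀ = 1) (hx₂ : B₂ (ee F ^ (m - 1) • a) b = 1)
    (hu₁ : cc B₁ (m - 1) u₀ = 0) (hw₁ : cc B₁ (m - 1) w₀ = 0) (ha : cc B₂ (m - 1) a = 0)
    (hb : cc B₂ (m - 1) b = 0)
    (hodd : Odd m → 3 ≤ m → cc B₁ (m - 2) u₀ = cc B₂ (m - 2) a ∧ cc B₁ (m - 2) w₀ = cc B₂ (m - 2) b) :
    ∃ u w, ∀ k, cc B₁ k u = cc B₂ k a ∧ cc B₁ k w = cc B₂ k b ∧
      B₁ (ee F ^ k • u) w = B₂ (ee F ^ k • a) b := by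
  have hstep : ∀ j, j + 2 ≤ m →
      (∃ u w, (∀ k, j + 1 ≤ k → cc B₁ k u = cc B₂ k a ∧ cc B₁ k w = cc B₂ k b ∧
        B₁ (ee F ^ k • u) w = B₂ (ee F ^ k • a) b) ∧ (m ≤ j + 2 → u = u₀ ∧ w = w₀)) →
      ∃ u w, (∀ k, j ≤ k → cc B₁ k u = cc B₂ k a ∧ cc B₁ k w = cc B₂ k b ∧
        B₁ (ee F ^ k • u) w = B₂ (ee F ^ k • a) b) ∧ (m ≤ j + 1 → u = u₀ ∧ w = w₀) := by
    rintro j hj ⟨u, w, hk, h0⟩
    have hx : B₁ (ee F ^ (m - 1) • u) w = 1 := by rw [(hk _ (by omega)).2.2, hx₂]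
    have hdiag : ∃ u' w', cc B₁ j u' = cc B₂ j a ∧ cc B₁ j w' = cc B₂ j b ∧
        ∀ k, j < k → cc B₁ k u' = cc B₂ k a ∧ cc B₁ k w' = cc B₂ k b ∧
          B₁ (ee F ^ k • u') w' = B₂ (ee F ^ k • a) b := by
      rcases Nat.even_or_odd j with he | ho
      · exact ⟨u, w, agree_even h₁ h₂ hN he fun k h => (hk k h).1, agree_even h₁ h₂ hN he fun k h => (hk k h).2.1,
          fun k h => hk k h⟩
      · rcases eq_or_lt_of_le hj with hjm | hjm
        · have hmo : Odd m := by rw [← hjm]; exact ho.add_even even_two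
          obtain ⟨e1, e2⟩ := hodd hmo (by obtain ⟨c, rfl⟩ := ho; omega)
          obtain ⟨f1, f2⟩ := h0 (by omega)
          refine ⟨u, w, ?_, ?_, fun k h => hk k h⟩
          · rw [f1, show j = m - 2 by omega, e1]
          · rw [f2, show j = m - 2 by omega, e2]
        · have htop : B₁ (ee F ^ (m - 1) • w) u = 1 := by
            rw [← symE h₁ hN (kill_of_le hkill (by omega) w) u, hx]
          obtain ⟨u', hu', hu''⟩ := diag_step h₁ h₂ hN hkill ho (by omega) htop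
            (by rw [(hk _ (by omega)).2.1, hb]) (cc B₂ j a)
          have hx' : B₁ (ee F ^ (m - 1) • u') w = 1 := by rw [(hu'' _ (by omega)).2, hx]
          obtain ⟨w', hw', hw''⟩ := diag_step h₁ h₂ hN hkill ho (by omega) hx'
            (by rw [(hu'' _ (by omega)).1, (hk _ (by omega)).1, ha]) (cc B₂ j b)
          refine ⟨u', w', hu', hw', fun k h => ⟨?_, ?_, ?_⟩⟩
          · rw [(hu'' k h).1]; exact (hk k h).1
          · rw [(hw'' k h).1]; exact (hk k h).2.1
          · refine agree_swap h₁ h₂ hN (j := j + 1) (fun i hi => ?_) k h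
            rw [(hw'' i (by omega)).2]
            refine agree_swap h₁ h₂ hN (j := j + 1) (fun i hi => ?_) i hi
            rw [(hu'' i (by omega)).2]
            exact (hk i hi).2.2
    obtain ⟨u', w', d1, d2, hd⟩ := hdiag
    obtain ⟨w'', c1, c2, c3⟩ := cross_step h₁ h₂ hN hkill hj
      (show B₁ (ee F ^ (m - 1) • u') w' = 1 by rw [(hd _ (by omega)).2.2, hx₂]) (B₂ (ee F ^ j • a) b)
    refine ⟨u', w'', fun k hkj => ?_, fun h => by omega⟩
    rcases eq_or_lt_of_le hkj with rfl | hlt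
    · exact ⟨d1, by rw [c3 j le_rfl, d2], c1⟩
    · exact ⟨(hd k hlt).1, by rw [c3 k hkj]; exact (hd k hlt).2.1, by rw [c2 k hlt]; exact (hd k hlt).2.2⟩
  have hall : ∀ d, d < m → ∃ u w, (∀ k, m - 1 - d ≤ k → cc B₁ k u = cc B₂ k a ∧ cc B₁ k w = cc B₂ k b ∧
      B₁ (ee F ^ k • u) w = B₂ (ee F ^ k • a) b) ∧ (m ≤ (m - 1 - d) + 1 → u = u₀ ∧ w = w₀) := by
    intro d
    induction d with
    | zero =>
      intro _
      refine ⟨u₀, w₀, fun k hk => ?_, fun _ => ⟨rfl, rfl⟩⟩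
      rcases eq_or_lt_of_le hk with rfl | hk
      · simp only [Nat.sub_zero]
        exact ⟨hu₁.trans ha.symm, hw₁.trans hb.symm, hx₁.trans hx₂.symm⟩
      · simp only [cc_kill hkill (show m ≤ k by omega), kill_of_le hkill (show m ≤ k by omega), map_zero,
          LinearMap.zero_apply, and_self]
    | succ d ih =>
      intro hd
      obtain ⟨u, w, hu, hu0⟩ := ih (by omega)
      exact hstep (m - 1 - (d + 1)) (by omega) ⟨u, w, fun k hk => hu k (by omega), fun h => hu0 (by omega)⟩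
  obtain ⟨u, w, h, -⟩ := hall (m - 1) (by omega)
  exact ⟨u, w, fun k => h k (by omega)⟩

end values

lemma eq_of_values (h₁ : IsInv B₁) (h₂ : IsInv B₂) (hN : Period F M N) {a b a' b' : M}
    (h : ∀ k, B₁ (ee F ^ k • a) b = B₂ (ee F ^ k • a') b') (r t : F[X]) :
    B₁ (r • a) (t • b) = B₂ (r • a') (t • b') := by
  rw [h₁.swap hN, h₂.swap hN, smul_smul, smul_smul, ← mul_one (sig N t * r), ← pow_zero (ee F)]
  exact agree (fun k _ => h k) _

end general

/-! ### Pieces -/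

/-- the cyclic piece -/
abbrev blk₁ (F : Type u) [Field F] (m : ℕ) : Type u := blk (ee F, m)

/-- the generator of the cyclic piece -/
noncomputable def g₁ (F : Type u) [Field F] (m : ℕ) : blk₁ F m := one' (ee F) m

/-- the piece of a pair -/
abbrev blk₂ (F : Type u) [Field F] (m : ℕ) : Type u := blk₁ F m × blk₁ F m

/-- the first generator of a pair -/
noncomputable def gu (F : Type u) [Field F] (m : ℕ) : blk₂ F m := (one' (ee F) m, 0)

/-- the second generator of a pair -/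
noncomputable def gw (F : Type u) [Field F] (m : ℕ) : blk₂ F m := (0, one' (ee F) m)

lemma kill₁ (x : blk₁ F m) : ee F ^ m • x = 0 := blk_kill x

lemma kill₂ (x : blk₂ F m) : ee F ^ m • x = 0 := Prod.ext (blk_kill x.1) (blk_kill x.2)

lemma div₁ {s : ℕ} (hs : s ≤ m) {x : blk₁ F m} (h : ee F ^ s • x = 0) : ∃ y, x = ee F ^ (m - s) • y := by
  obtain ⟨r, rfl⟩ := eq_smul_one x
  rw [smul_smul, smul_one_eq_zero, show ee F ^ m = ee F ^ s * ee F ^ (m - s) by rw [← pow_add]; congr 1; omega,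
    mul_dvd_mul_iff_left (pow_ne_zero _ (X_sub_C_ne_zero 1))] at h
  obtain ⟨c, rfl⟩ := h
  exact ⟨c • one' _ m, mul_smul _ _ _⟩

lemma div₂ {s : ℕ} (hs : s ≤ m) {x : blk₂ F m} (h : ee F ^ s • x = 0) : ∃ y, x = ee F ^ (m - s) • y := by
  obtain ⟨a, ha⟩ := div₁ hs (congrArg Prod.fst h)
  obtain ⟨b, hb⟩ := div₁ hs (congrArg Prod.snd h)
  exact ⟨(a, b), Prod.ext ha hb⟩

/-- the quadratic values below the size of a piece vanish -/
lemma cc_small {M : Type u} [AddCommGroup M] [Module F M] [Module F[X] M] [IsScalarTower F F[X] M]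
    {B : M →ₗ[F] M →ₗ[F] F} (hB : IsInv B) (hN : Period F M N) (hkill : ∀ x : M, ee F ^ m • x = 0)
    (hdiv : ∀ s, s ≤ m → ∀ x : M, ee F ^ s • x = 0 → ∃ y, x = ee F ^ (m - s) • y) {s : ℕ} (hs : s ≠ m) {x : M}
    (hx : ee F ^ s • x = 0) : cc B (s - 1) x = 0 := by
  rcases lt_or_gt_of_ne hs with hlt | hgt
  · rcases Nat.eq_zero_or_pos s with rfl | hpos
    · rw [pow_zero, one_smul] at hx
      simp [cc, hx]
    obtain ⟨y, rfl⟩ := hdiv s hlt.le x hx
    rw [cc, smul_smul, ← pow_add]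
    exact move_zero hB hN (kill_of_le hkill (by omega) y) y
  · exact cc_kill hkill (by omega) _ _

lemma soc₁ (hm : 1 ≤ m) {x : blk₁ F m} (h : ee F • x = 0) : ∃ c : F, x = c • (ee F ^ (m - 1) • g₁ F m) := by
  obtain ⟨y, rfl⟩ := div₁ hm (s := 1) (by rwa [pow_one])
  obtain ⟨r, rfl⟩ := eq_smul_one y
  refine ⟨r.eval 1, ?_⟩
  rw [smul_comm]
  exact eigen_pow (eigen_soc hm (blk_kill (g₁ F m))) r |>.trans (by rw [g₁])

section iso

variable {M : Type u} [AddCommGroup M] [Module F M] [Module F[X] M] [IsScalarTower F F[X] M]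
  {B : M →ₗ[F] M →ₗ[F] F}

lemma nondeg_pair (hB : IsInv B) (hN : Period F M N) (hm : 1 ≤ m) {u w : M} (hu : ee F ^ m • u = 0)
    (hw : ee F ^ m • w = 0) (hx : B (ee F ^ (m - 1) • u) w = 1) (huu : cc B (m - 1) u = 0)
    (hww : cc B (m - 1) w = 0) : Nondeg (pull B ((cyc u hu).coprod (cyc w hw))) := by
  set φ := (cyc u hu).coprod (cyc w hw) with hφ
  have hwu : B (ee F ^ (m - 1) • w) u = 1 := by
    rw [← symE hB hN (by rw [Nat.sub_add_cancel hm]; exact hw) u, hx]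
  have hN' : ∀ x : blk₂ F m, ∀ y, pull B φ ((X : F[X]) • x) ((X : F[X]) • y) = pull B φ x y := fun x y => by
    simp only [pull_apply, map_smul φ]; exact hB.inv _ _
  have hrad : ∀ x : blk₂ F m, (∀ y, pull B φ x y = 0) → ∀ (p : F[X]) y, pull B φ (p • x) y = 0 := by
    intro x hx p y
    rw [pull_apply, map_smul φ, hB.adj hN, ← map_smul φ]
    exact hx _
  have hi : ∀ i (x : blk₂ F m), ee F ^ i • x = 0 → (∀ y, pull B φ x y = 0) → x = 0 := by
    intro i
    induction i with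
    | zero => intro x hx _; rwa [pow_zero, one_smul] at hx
    | succ i ih =>
      intro x hxi hx'
      have hx1 := ih _ (by rwa [smul_smul, ← pow_succ]) (hrad x hx' (ee F))
      obtain ⟨c, hc⟩ := soc₁ hm (congrArg Prod.fst hx1)
      obtain ⟨d, hd⟩ := soc₁ hm (congrArg Prod.snd hx1)
      have e : φ x = c • ee F ^ (m - 1) • u + d • ee F ^ (m - 1) • w := by
        rw [hφ, LinearMap.coprod_apply, hc, hd, g₁]
        simp only [← C_smul', map_smul (cyc u hu), map_smul (cyc w hw), cyc_one]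
      have k1 := hx' (gw F m)
      have k2 := hx' (gu F m)
      rw [pull_apply, e, hφ, gw, LinearMap.coprod_apply, map_zero, zero_add, cyc_one, map_add,
        LinearMap.add_apply, smul_left', smul_left', hx,
        show B (ee F ^ (m - 1) • w) w = 0 from hww, mul_zero, add_zero, mul_one] at k1
      rw [pull_apply, e, hφ, gu, LinearMap.coprod_apply, map_zero, add_zero, cyc_one, map_add,
        LinearMap.add_apply, smul_left', smul_left', hwu,
        show B (ee F ^ (m - 1) • u) u = 0 from huu, mul_zero, zero_add, mul_one] at k2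
      refine Prod.ext ?_ ?_
      · rw [hc, k1, zero_smul]; rfl
      · rw [hd, k2, zero_smul]; rfl
  exact fun x hx => hi m x (kill₂ x) hx

end iso

/-- the parameters of a cyclic piece -/
def CycCol (B : blk₁ F m →ₗ[F] blk₁ F m →ₗ[F] F) (c : Bool) : Prop :=
  cc B (m - 1) (g₁ F m) = 1 ∧ (4 ≤ m → (c = false ↔ Wp (cc B (m - 3) (g₁ F m))))

/-- the parameters of a pair -/
def PairCol (τ : F) (B : blk₂ F m →ₗ[F] blk₂ F m →ₗ[F] F) (c : Bool) : Prop :=
  B (ee F ^ (m - 1) • gu F m) (gw F m) = 1 ∧ cc B (m - 1) (gu F m) = 0 ∧ cc B (m - 1) (gw F m) = 0 ∧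
    (Odd m → 3 ≤ m → cc B (m - 2) (gu F m) = (if c then 1 else 0) ∧ cc B (m - 2) (gw F m) = (if c then τ else 0))

/-- cyclic pieces with the same parameters -/
theorem iso_cyc [Finite F] (hm : Even m) (hm2 : 2 ≤ m) {B₁ B₂ : blk₁ F m →ₗ[F] blk₁ F m →ₗ[F] F}
    (h₁ : IsInv B₁) (h₂ : IsInv B₂) (hN : Period F (blk₁ F m) N) {c : Bool} (c₁ : CycCol B₁ c) (c₂ : CycCol B₂ c) :
    ∃ φ : blk₁ F m →ₗ[F[X]] blk₁ F m, ∀ x y, B₁ (φ x) (φ y) = B₂ x y := by
  obtain ⟨u, hu⟩ := cyc_values h₁ h₂ hN kill₁ hm hm2 c₁.1 c₂.1 (fun h => wp_of_iff (c₁.2 h) (c₂.2 h))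
  refine ⟨cyc u (kill₁ u), fun x y => ?_⟩
  obtain ⟨r, rfl⟩ := eq_smul_one x
  obtain ⟨t, rfl⟩ := eq_smul_one y
  rw [map_smul (cyc u _), map_smul (cyc u _), cyc_one]
  exact eq_of_values h₁ h₂ hN hu r t

/-- pairs with the same parameters -/
theorem iso_pair (hm : 1 ≤ m) {τ : F} {B₁ B₂ : blk₂ F m →ₗ[F] blk₂ F m →ₗ[F] F}
    (h₁ : IsInv B₁) (h₂ : IsInv B₂) (hN : Period F (blk₂ F m) N) {c : Bool} (c₁ : PairCol τ B₁ c)
    (c₂ : PairCol τ B₂ c) : ∃ φ : blk₂ F m →ₗ[F[X]] blk₂ F m, ∀ x y, B₁ (φ x) (φ y) = B₂ x y := by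
  obtain ⟨p1, p2, p3, p4⟩ := c₁
  obtain ⟨q1, q2, q3, q4⟩ := c₂
  obtain ⟨u, w, h⟩ := pair_values h₁ h₂ hN kill₂ hm p1 q1 p2 p3 q2 q3 (fun ho h3 =>
    ⟨(p4 ho h3).1.trans (q4 ho h3).1.symm, (p4 ho h3).2.trans (q4 ho h3).2.symm⟩)
  refine ⟨(cyc u (kill₂ u)).coprod (cyc w (kill₂ w)), ?_⟩
  rintro ⟨a, b⟩ ⟨a', b'⟩
  obtain ⟨r, rfl⟩ := eq_smul_one a
  obtain ⟨s, rfl⟩ := eq_smul_one b
  obtain ⟨r', rfl⟩ := eq_smul_one a'
  obtain ⟨s', rfl⟩ := eq_smul_one b'
  have e : ∀ p t : F[X], ((p • one' (ee F) m, t • one' (ee F) m) : blk₂ F m) = p • gu F m + t • gw F m := fun p t => by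
    rw [gu, gw, Prod.smul_mk, Prod.smul_mk, smul_zero, smul_zero, Prod.mk_add_mk, add_zero, zero_add]
  have huu := eq_of_values h₁ h₂ hN fun k => (h k).1
  have hww := eq_of_values h₁ h₂ hN fun k => (h k).2.1
  have huw := eq_of_values h₁ h₂ hN fun k => (h k).2.2
  simp only [LinearMap.coprod_apply, map_smul, cyc_one]
  rw [e r s, e r' s']
  simp only [map_add, LinearMap.add_apply, huu, hww, huw]
  rw [sym h₁ (s • w) (r' • u), sym h₂ (s • gw F m) (r' • gu F m), huw]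

end SpEvenCount2557
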