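import Cfsg.Agent.GenA.SpEvenClassCount.Pieces

/-!
Choice of the top pieces of an invariant alternating form in characteristic two.
-/

set_option autoImplicit false
set_option linter.unusedSectionVars false

universe u

namespace SpEvenCount2557

open Polynomial Module GLClassCount2478 SUClassCount2481 SpClassCount2482

variable {F : Type u} [Field F] [CharP F 2] [Finite F] {N m : ℕ}

/-- some part of size `s` carries a non-zero quadratic value -/
def Eps (X : SObj F) (s : ℕ) : Prop := ∃ x : X.M, ee F ^ s • x = 0 ∧ cc X.B (s - 1) x ≠ 0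

/-- the set of sizes with non-zero quadratic values -/
def Lab (X : SObj F) (S : Finset ℕ) : Prop := ∀ s, s ∈ S ↔ Eps X s

lemma du_ee : du (ee F) = ee F := du_X_sub_C (mul_one 1)

lemma eps_even {X : SObj F} {s : ℕ} (h : Eps X s) : Even s ∧ 2 ≤ s := by
  obtain ⟨N, hN⟩ := exists_period X
  obtain ⟨x, hx, hc⟩ := h
  have h0 : s ≠ 0 := by
    rintro rfl
    rw [pow_zero, one_smul] at hx
    exact hc (by simp [cc, hx])
  have he : Even s := by
    by_contra ho
    rw [Nat.not_even_iff_odd] at ho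
    exact hc (cc_even_zero X.inv hN (Nat.Odd.sub_odd ho odd_one) (by rwa [Nat.sub_add_cancel (show 1 ≤ s from ho.pos)]))
  exact ⟨he, by obtain ⟨a, rfl⟩ := he; omega⟩

section data

variable {X : SObj F} {D : Multiset (F[X] × ℕ)} (hX : HasData X.M D) (hmax : ∀ x ∈ D, x.2 ≤ m)

include hX hmax

lemma stab {k : ℕ} (hk : m ≤ k) (x : X.M) (h : ee F ^ k • x = 0) : ee F ^ m • x = 0 := by
  obtain ⟨d, rfl⟩ := Nat.exists_eq_add_of_le hk
  induction d generalizing x with
  | zero => exact h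
  | succ d ih =>
    have := ih (ee F • x) (Nat.le_add_right m d) (by rwa [smul_smul, ← pow_succ, add_assoc])
    rw [smul_smul, ← pow_succ] at this
    exact data_max_stable hX (monic_X_sub_C 1) (irreducible_X_sub_C 1) hmax x this

lemma eps_le {s : ℕ} (h : Eps X s) : s ≤ m := by
  by_contra hlt
  obtain ⟨x, hx, hc⟩ := h
  refine hc ?_
  have h1 := stab hX hmax (by omega) x hx
  rw [cc, show s - 1 = (s - 1 - m) + m by omega, pow_add, ← smul_smul, h1, smul_zero, map_zero, LinearMap.zero_apply]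

/-- the primary component of `X - 1` is non-degenerate -/
lemma kerTop_nd {v : X.M} (hv : ee F ^ m • v = 0) (h : ∀ w, ee F ^ m • w = 0 → X.B v w = 0) : v = 0 := by
  obtain ⟨N, hN⟩ := exists_period X
  refine X.nd _ fun y => ?_
  let g : LinearMap.range (LinearMap.lsmul F[X] X.M (ee F ^ m)) → LinearMap.range (LinearMap.lsmul F[X] X.M (ee F ^ m)) :=
    fun z => ⟨ee F ^ m • (z : X.M), ⟨(z : X.M), rfl⟩⟩
  have hg : Function.Injective g := by
    rintro ⟨_, a, rfl⟩ ⟨_, b, rfl⟩ hab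
    have h' : ee F ^ m • (ee F ^ m • a) = ee F ^ m • (ee F ^ m • b) := congrArg Subtype.val hab
    refine Subtype.ext ?_
    show ee F ^ m • a = ee F ^ m • b
    rw [← sub_eq_zero, ← smul_sub, ← smul_sub, smul_smul, ← pow_add] at h'
    rw [← sub_eq_zero, ← smul_sub]
    exact stab hX hmax (Nat.le_add_right m m) _ h'
  obtain ⟨⟨_, t, rfl⟩, ht⟩ := Finite.surjective_of_injective hg ⟨ee F ^ m • y, y, rfl⟩
  have ht' : ee F ^ m • (ee F ^ m • t) = ee F ^ m • y := congrArg Subtype.val ht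
  have h1 := h (y - ee F ^ m • t) (by rw [smul_sub, ht', sub_self])
  have h2 : X.B v (ee F ^ m • t) = 0 := by
    have := X.inv.ker_perp hN (ee F) m hv t
    rwa [du_ee] at this
  rwa [map_sub, h2, sub_zero] at h1

end data

/-- the kernel of a power of `X - 1` -/
noncomputable def ker' (X : SObj F) (m : ℕ) : Submodule F X.M :=
  LinearMap.ker ((LinearMap.lsmul F[X] X.M (ee F ^ m)).restrictScalars F)

lemma mem_ker' {X : SObj F} {x : X.M} : x ∈ ker' X m ↔ ee F ^ m • x = 0 := Iff.rfl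

/-- the form on the top layer -/
noncomputable def topForm (X : SObj F) (m : ℕ) : ker' X m →ₗ[F] ker' X m →ₗ[F] F :=
  X.B.compl₁₂ (((LinearMap.lsmul F[X] X.M (ee F ^ (m - 1))).restrictScalars F).comp (ker' X m).subtype)
    (ker' X m).subtype

lemma topForm_apply (X : SObj F) (a b : ker' X m) : topForm X m a b = X.B (ee F ^ (m - 1) • (a : X.M)) b := rfl

/-- a functional vanishing on the kernel of a symmetric form is a value of it -/
lemma exists_of_symm {V : Type u} [AddCommGroup V] [Module F V] [Module.Finite F V] (β : V →ₗ[F] V →ₗ[F] F)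
    (hs : ∀ a b, β a b = β b a) (ℓ : Module.Dual F V) (h : ∀ v, β v = 0 → ℓ v = 0) : ∃ e, β e = ℓ := by
  have hle : LinearMap.range β ≤ (LinearMap.ker β).dualAnnihilator := by
    rintro _ ⟨a, rfl⟩
    rw [Submodule.mem_dualAnnihilator]
    intro v hv
    rw [hs, LinearMap.mem_ker.1 hv, LinearMap.zero_apply]
  have heq : LinearMap.range β = (LinearMap.ker β).dualAnnihilator := by
    refine Submodule.eq_of_le_of_finrank_eq hle ?_
    have h1 := LinearMap.finrank_range_add_finrank_ker β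
    have h2 := Subspace.finrank_add_finrank_dualAnnihilator_eq (LinearMap.ker β)
    exact Nat.add_right_cancel (h1.trans (h2.symm.trans (add_comm _ _)))
  have hmem : ℓ ∈ LinearMap.range β := by
    rw [heq, Submodule.mem_dualAnnihilator]
    exact fun v hv => h v (LinearMap.mem_ker.1 hv)
  exact hmem

/-- a special vector: it represents the root of the quadratic value -/
def Special (X : SObj F) (m : ℕ) (e : X.M) : Prop :=
  ee F ^ m • e = 0 ∧ ∀ z : X.M, ee F ^ m • z = 0 →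
    X.B (ee F ^ (m - 1) • z) e * X.B (ee F ^ (m - 1) • z) e = cc X.B (m - 1) z

lemma Special.cases {X : SObj F} {e : X.M} (h : Special X m e) : cc X.B (m - 1) e = 0 ∨ cc X.B (m - 1) e = 1 := by
  have := h.2 e h.1
  change cc X.B (m - 1) e * cc X.B (m - 1) e = cc X.B (m - 1) e at this
  rcases eq_or_ne (cc X.B (m - 1) e) 0 with h0 | h0
  · exact Or.inl h0
  · exact Or.inr (mul_right_cancel₀ h0 (this.trans (one_mul _).symm))

lemma sq_inj {a b : F} (h : a * a = b * b) : a = b := by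
  have e : (a + b) * (a + b) = 0 := by
    linear_combination (norm := skip) h + (b * b + a * b) * CharTwo.two_eq_zero (R := F)
    ring
  exact CharTwo.add_eq_zero.1 (mul_self_eq_zero.1 e)

section top

variable {X : SObj F} {D : Multiset (F[X] × ℕ)} (hX : HasData X.M D) (hm : 1 ≤ m) (hmax : ∀ x ∈ D, x.2 ≤ m)

include hX hm hmax

lemma topForm_symm (a b : ker' X m) : topForm X m a b = topForm X m b a := by
  obtain ⟨N, hN⟩ := exists_period X
  rw [topForm_apply, topForm_apply, symE X.inv hN (by rw [Nat.sub_add_cancel hm]; exact mem_ker'.1 b.2)]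

lemma topForm_ker {a : ker' X m} (h : topForm X m a = 0) : ee F ^ (m - 1) • (a : X.M) = 0 := by
  refine kerTop_nd hX hmax ?_ fun w hw => ?_
  · rw [smul_comm, mem_ker'.1 a.2, smul_zero]
  · exact LinearMap.congr_fun h ⟨w, mem_ker'.2 hw⟩

/-- special vectors exist -/
lemma exists_special : ∃ e, Special X m e := by
  obtain ⟨N, hN⟩ := exists_period X
  choose r hr using fun z : ker' X m => exists_sqrt (cc X.B (m - 1) (z : X.M))
  let ℓ : Module.Dual F (ker' X m) :=
    { toFun := r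
      map_add' := fun a b => sq_inj (by
        rw [hr, Submodule.coe_add, cc_add_of X.inv hN (by rw [Nat.sub_add_cancel hm]; exact mem_ker'.1 b.2), ← hr a,
          ← hr b]
        linear_combination (-(r a * r b)) * CharTwo.two_eq_zero (R := F))
      map_smul' := fun c a => sq_inj (by
        rw [hr, RingHom.id_apply, smul_eq_mul, Submodule.coe_smul, cc_smul X.inv hN, ← hr a]
        ring) }
  obtain ⟨e, he⟩ := exists_of_symm (topForm X m) (topForm_symm hX hm hmax) ℓ fun v hv => sq_inj (by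
    show r v * r v = 0 * 0
    rw [hr, cc, topForm_ker hX hm hmax hv, map_zero, LinearMap.zero_apply, mul_zero])
  refine ⟨e, mem_ker'.1 e.2, fun z hz => ?_⟩
  have h1 : X.B (ee F ^ (m - 1) • z) e = r ⟨z, mem_ker'.2 hz⟩ := by
    rw [← topForm_apply X ⟨z, mem_ker'.2 hz⟩ e, topForm_symm hX hm hmax, he]
    rfl
  rw [h1, hr]

lemma exists_below (hm2 : 2 ≤ m) (hmem : (ee F, m - 1) ∈ D) :
    ∃ z : X.M, ee F ^ (m - 1) • z = 0 ∧ ∀ y, ee F ^ m • y = 0 → ee F ^ (m - 1) • y ≠ ee F ^ (m - 2) • z := by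
  classical
  by_contra hall
  push Not at hall
  let K1 := {z : X.M // ee F ^ (m - 1) • z = 0}
  let K2 := {z : X.M // ee F ^ (m - 2) • z = 0}
  let K0 := {z : X.M // ee F ^ m • z = 0}
  let T := {v : X.M // ∃ z, ee F ^ (m - 1) • z = 0 ∧ ee F ^ (m - 2) • z = v}
  let σ : T → X.M := fun v => v.2.choose
  have hσ : ∀ v : T, ee F ^ (m - 1) • σ v = 0 ∧ ee F ^ (m - 2) • σ v = v.1 := fun v => v.2.choose_spec
  let y : T → X.M := fun v => (hall (σ v) (hσ v).1).choose
  have hy : ∀ v : T, ee F ^ m • y v = 0 ∧ ee F ^ (m - 1) • y v = v.1 := fun v =>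
    ⟨(hall (σ v) (hσ v).1).choose_spec.1, (hall (σ v) (hσ v).1).choose_spec.2.trans (hσ v).2⟩
  have hK : ∀ z : K1, ee F ^ m • z.1 = 0 := by
    rintro ⟨z, hz⟩
    show ee F ^ m • z = 0
    rw [show m = 1 + (m - 1) by omega, pow_add, ← smul_smul, hz, smul_zero]
  let tv : K1 → T := fun z => ⟨ee F ^ (m - 2) • z.1, z.1, z.2, rfl⟩
  let g : K1 × K1 → K2 × K0 := fun p =>
    (⟨p.1.1 - σ (tv p.1), by rw [smul_sub, (hσ _).2, sub_self]⟩,
     ⟨y (tv p.1) + p.2.1, by rw [smul_add, (hy _).1, hK, add_zero]⟩)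
  have hg : Function.Injective g := by
    rintro ⟨a, b⟩ ⟨a', b'⟩ hab
    have e1 : a.1 - σ (tv a) = a'.1 - σ (tv a') := congrArg (fun p : K2 × K0 => p.1.1) hab
    have e2 : y (tv a) + b.1 = y (tv a') + b'.1 := congrArg (fun p : K2 × K0 => p.2.1) hab
    have et : tv a = tv a' := Subtype.ext (by
      have := congrArg (fun x => ee F ^ (m - 1) • x) e2
      simp only [smul_add, (hy _).2, b.2, b'.2, add_zero] at this
      exact this)
    rw [et] at e1 e2
    exact Prod.ext (Subtype.ext (sub_left_inj.1 e1)) (Subtype.ext (add_left_cancel e2))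
  have hle : kc X.M (ee F ^ (m - 1)) * kc X.M (ee F ^ (m - 1)) ≤ kc X.M (ee F ^ (m - 2)) * kc X.M (ee F ^ m) := by
    have := Nat.card_le_card_of_injective g hg
    rwa [Nat.card_prod, Nat.card_prod] at this
  haveI := Fintype.ofFinite F
  rw [hX.2 _ (monic_X_sub_C 1) (irreducible_X_sub_C 1), hX.2 _ (monic_X_sub_C 1) (irreducible_X_sub_C 1),
    hX.2 _ (monic_X_sub_C 1) (irreducible_X_sub_C 1), ← pow_add, ← pow_add,
    Nat.pow_le_pow_iff_right one_lt_cardF] at hle
  obtain ⟨j, rfl⟩ : ∃ j, m = j + 2 := ⟨m - 2, by omega⟩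
  rw [show j + 2 - 1 = j + 1 by omega] at hle hmem
  rw [Nat.add_sub_cancel, sx_succ D _ (j + 1), sx_succ D _ j, natDegree_X_sub_C, one_mul, one_mul] at hle
  have hs := above_split D (ee F) j
  have := Multiset.count_pos.2 hmem
  simp only [ee] at hle hs this
  omega

lemma exists_dual_below {z : X.M} (hz : ee F ^ (m - 1) • z = 0) (hm2 : 2 ≤ m)
    (hout : ∀ y, ee F ^ m • y = 0 → ee F ^ (m - 1) • y ≠ ee F ^ (m - 2) • z) :
    ∃ w, ee F ^ (m - 1) • w = 0 ∧ X.B (ee F ^ (m - 2) • z) w = 1 := by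
  set v := ee F ^ (m - 2) • z with hv
  have hvm : ee F ^ m • v = 0 := by
    rw [hv, smul_smul, ← pow_add, show m + (m - 2) = (m - 1) + (m - 1) by omega, pow_add, ← smul_smul, hz, smul_zero]
  obtain ⟨w, hw, hne⟩ : ∃ w, ee F ^ (m - 1) • w = 0 ∧ X.B v w ≠ 0 := by
    by_contra hall
    push Not at hall
    obtain ⟨e, he⟩ := exists_of_symm (topForm X m) (topForm_symm hX hm hmax) ((X.B v).comp (ker' X m).subtype)
      fun a ha => hall _ (topForm_ker hX hm hmax ha)
    refine hout e (mem_ker'.1 e.2) ?_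
    have h0 : v - ee F ^ (m - 1) • (e : X.M) = 0 := by
      refine kerTop_nd hX hmax ?_ fun x hx => ?_
      · rw [smul_sub, hvm, smul_comm, mem_ker'.1 e.2, smul_zero, sub_zero]
      · have h1 := LinearMap.congr_fun he ⟨x, mem_ker'.2 hx⟩
        rw [topForm_apply] at h1
        rw [map_sub, LinearMap.sub_apply, h1]
        exact sub_self _
    exact (sub_eq_zero.1 h0).symm
  exact ⟨(X.B v w)⁻¹ • w, by rw [smul_comm, hw, smul_zero], by
    rw [smul_right', inv_mul_cancel₀ hne]⟩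

/-- a change of a cyclic generator making the second parameter trivial -/
lemma exists_kill (hev : Even m) (hm4 : 4 ≤ m) {x : X.M} (hx : ee F ^ m • x = 0) (hx1 : cc X.B (m - 1) x = 1)
    (h : Eps X (m - 2) ∨ (ee F, m - 1) ∈ D ∨
      ∃ y, ee F ^ m • y = 0 ∧ cc X.B (m - 1) y = 1 ∧ X.B (ee F ^ (m - 1) • y) x = 0) :
    ∃ x', ee F ^ m • x' = 0 ∧ cc X.B (m - 1) x' = 1 ∧ cc X.B (m - 3) x' = 0 ∧
      ∀ z, ee F ^ m • z = 0 → X.B (ee F ^ (m - 1) • z) x' = X.B (ee F ^ (m - 1) • z) x := by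
  obtain ⟨N, hN⟩ := exists_period X
  have hodd : Odd (m - 3) := by
    obtain ⟨a, rfl⟩ := hev
    exact ⟨a - 2, by omega⟩
  have hkey : ∃ z, ee F ^ (m - 1) • z = 0 ∧
      ((cc X.B (m - 3) z ≠ 0 ∧ X.B (ee F ^ (m - 2) • z) x = 0) ∨
        (cc X.B (m - 3) z = 0 ∧ X.B (ee F ^ (m - 2) • z) x ≠ 0)) := by
    rcases h with h | h | h
    · obtain ⟨z, hz, hc⟩ := h
      refine ⟨z, ?_, Or.inl ⟨by rwa [show m - 3 = m - 2 - 1 by omega], by rw [hz, map_zero, LinearMap.zero_apply]⟩⟩
      rw [show m - 1 = 1 + (m - 2) by omega, pow_add, ← smul_smul, hz, smul_zero]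
    · obtain ⟨z, hz, hout⟩ := exists_below hX hm hmax (by omega) h
      obtain ⟨w, hw, hzw⟩ := exists_dual_below hX hm hmax hz (by omega) hout
      have hz' : ee F ^ (m - 3 + 2) • z = 0 := by rwa [show m - 3 + 2 = m - 1 by omega]
      have hev2 : Even (m - 2) := by obtain ⟨a, rfl⟩ := hev; exact ⟨a - 1, by omega⟩
      have hzz : X.B (ee F ^ (m - 2) • z) z = 0 :=
        cc_even_zero X.inv hN hev2 (by rwa [show m - 2 + 1 = m - 1 by omega])
      by_cases hb : X.B (ee F ^ (m - 2) • z) x = 0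
      · by_cases hbw : X.B (ee F ^ (m - 2) • w) x = 0
        · by_cases ha : cc X.B (m - 3) z = 0
          · by_cases haw : cc X.B (m - 3) w = 0
            · refine ⟨w + z, by rw [smul_add, hw, hz, add_zero], Or.inl ⟨?_, ?_⟩⟩
              · rw [cc_add_odd X.inv hN hodd hz', ha, haw, show m - 3 + 1 = m - 2 by omega, hzw]
                simp
              · rw [smul_add, map_add, LinearMap.add_apply, hb, hbw, add_zero]
            · exact ⟨w, hw, Or.inl ⟨haw, hbw⟩⟩
          · exact ⟨z, hz, Or.inl ⟨ha, hb⟩⟩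
        · -- `z` has value zero on `x`
          by_cases ha : cc X.B (m - 3) z = 0
          · -- `v = w + (value) z`
            refine ⟨w + cc X.B (m - 3) w • z, by rw [smul_add, hw, smul_comm, hz, smul_zero, add_zero], Or.inr ⟨?_, ?_⟩⟩
            · rw [cc_add_odd X.inv hN hodd (by rw [smul_comm, hz', smul_zero]), cc_smul X.inv hN, ha, mul_zero,
                add_zero, show m - 3 + 1 = m - 2 by omega, smul_comm, smul_left', hzw, mul_one,
                CharTwo.add_self_eq_zero]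
            · rw [smul_add, map_add, LinearMap.add_apply, smul_comm, smul_left', hb, mul_zero, add_zero]
              exact hbw
          · exact ⟨z, hz, Or.inl ⟨ha, hb⟩⟩
      · -- replace `w` by a vector with value zero on `x`
        set l := X.B (ee F ^ (m - 2) • w) x * (X.B (ee F ^ (m - 2) • z) x)⁻¹ with hl
        set w' := w + l • z with hw'
        have hw1 : ee F ^ (m - 1) • w' = 0 := by rw [hw', smul_add, hw, smul_comm, hz, smul_zero, add_zero]
        have hbw : X.B (ee F ^ (m - 2) • w') x = 0 := by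
          rw [hw', smul_add, map_add, LinearMap.add_apply, smul_comm, smul_left', hl, mul_assoc, inv_mul_cancel₀ hb,
            mul_one, CharTwo.add_self_eq_zero]
        have hzw' : X.B (ee F ^ (m - 2) • z) w' = 1 := by
          rw [hw', map_add, smul_right', hzz, mul_zero, add_zero, hzw]
        by_cases haw : cc X.B (m - 3) w' = 0
        · have hwz : X.B (ee F ^ (m - 2) • w') z = 1 := by
            rw [← symE X.inv hN (by rwa [show m - 2 + 1 = m - 1 by omega]) z, hzw']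
          refine ⟨z + cc X.B (m - 3) z • w', by rw [smul_add, hz, smul_comm, hw1, smul_zero, add_zero], Or.inr ⟨?_, ?_⟩⟩
          · rw [cc_add_odd X.inv hN hodd (by rw [smul_comm, show m - 3 + 2 = m - 1 by omega, hw1, smul_zero]),
              cc_smul X.inv hN, haw, mul_zero, add_zero, show m - 3 + 1 = m - 2 by omega, smul_comm, smul_left', hwz,
              mul_one, CharTwo.add_self_eq_zero]
          · rw [smul_add, map_add, LinearMap.add_apply, smul_comm, smul_left', hbw, mul_zero, add_zero]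
            exact hb
        · exact ⟨w', hw1, Or.inl ⟨haw, hbw⟩⟩
    · obtain ⟨y, hy, hy1, hyx⟩ := h
      refine ⟨ee F • y, ?_, Or.inl ⟨?_, ?_⟩⟩
      · rw [smul_smul, ← pow_succ, show m - 1 + 1 = m by omega, hy]
      · rw [← pow_one (ee F), cc_pow, moveE X.inv hN (by rwa [show m - 3 + 1 + 1 + 1 = m by omega]),
          show m - 3 + 1 + 1 = m - 1 by omega]
        exact fun h => one_ne_zero (hy1.symm.trans h)
      · rw [smul_smul, ← pow_succ, show m - 2 + 1 = m - 1 by omega, hyx]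
  obtain ⟨z, hz, hab⟩ := hkey
  have hzk : ∀ k, m - 1 ≤ k → ∀ l : F, ee F ^ k • (l • z) = 0 := fun k hk l => by
    obtain ⟨d, rfl⟩ := Nat.exists_eq_add_of_le hk
    rw [smul_comm, pow_add, mul_comm, ← smul_smul, hz, smul_zero, smul_zero]
  have hc : ∀ l : F, cc X.B (m - 3) (x + l • z) =
      cc X.B (m - 3) x + l * l * cc X.B (m - 3) z + l * X.B (ee F ^ (m - 2) • z) x := fun l => by
    rw [cc_add_odd X.inv hN hodd (hzk _ (by omega) l), cc_smul X.inv hN, show m - 3 + 1 = m - 2 by omega, smul_comm,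
      smul_left']
  obtain ⟨l, hl⟩ : ∃ l : F, cc X.B (m - 3) (x + l • z) = 0 := by
    rcases hab with ⟨ha, hb⟩ | ⟨ha, hb⟩
    · obtain ⟨l, hl⟩ := exists_sqrt (cc X.B (m - 3) x * (cc X.B (m - 3) z)⁻¹)
      exact ⟨l, by rw [hc, hl, hb, mul_zero, add_zero, mul_assoc, inv_mul_cancel₀ ha, mul_one, CharTwo.add_self_eq_zero]⟩
    · refine ⟨cc X.B (m - 3) x * (X.B (ee F ^ (m - 2) • z) x)⁻¹, ?_⟩
      rw [hc, ha, mul_zero, add_zero, mul_assoc, inv_mul_cancel₀ hb, mul_one, CharTwo.add_self_eq_zero]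
  refine ⟨x + l • z, by rw [smul_add, hx, hzk m (by omega), add_zero], ?_, hl, fun t ht => ?_⟩
  · rw [cc_add_of X.inv hN (hzk _ (by omega) l), hx1, cc, hzk _ le_rfl, map_zero, LinearMap.zero_apply, add_zero]
  · rw [map_add, symE X.inv hN (hzk _ (by omega) l) t, hzk _ le_rfl, map_zero, LinearMap.zero_apply, add_zero]

/-- a pair at the top -/
lemma exists_pair (hmem : (ee F, m) ∈ D) (hev : Even m → ¬ Eps X m) :
    ∃ u w : X.M, ee F ^ m • u = 0 ∧ ee F ^ m • w = 0 ∧ X.B (ee F ^ (m - 1) • u) w = 1 ∧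
      cc X.B (m - 1) u = 0 ∧ cc X.B (m - 1) w = 0 := by
  obtain ⟨N, hN⟩ := exists_period X
  have hz : ∀ x : X.M, ee F ^ m • x = 0 → cc X.B (m - 1) x = 0 := fun x hx => by
    rcases Nat.even_or_odd m with he | ho
    · by_contra hc
      exact hev he ⟨x, hx, hc⟩
    · exact cc_even_zero X.inv hN (Nat.Odd.sub_odd ho odd_one) (by rwa [Nat.sub_add_cancel hm])
  obtain ⟨u, hu, hu'⟩ := exists_top hX (monic_X_sub_C 1) (irreducible_X_sub_C 1) hm hmem
  obtain ⟨w, hw, huw⟩ := exists_partner X.inv hN X.nd hu hu' (fun x hx => by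
    rw [du_X_sub_C (mul_one 1)] at hx ⊢
    exact stab hX hmax (by omega) x hx)
  rw [du_X_sub_C (mul_one 1)] at hw
  set c := X.B (ee F ^ (m - 1) • u) w with hc
  have hw' : ee F ^ m • (c⁻¹ • w) = 0 := by rw [smul_comm, hw, smul_zero]
  exact ⟨u, c⁻¹ • w, hu, hw', by rw [smul_right', ← hc, inv_mul_cancel₀ huw], hz u hu, hz _ hw'⟩

/-- the normal form of a pair of odd size -/
lemma exists_pair_odd (hmem : (ee F, m) ∈ D) (hodd : Odd m) (hm3 : 3 ≤ m) (τ : F) (hτ : ∀ a : F, Wp a ∨ Wp (a + τ)) :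
    ∃ (c : Bool) (u w : X.M), ee F ^ m • u = 0 ∧ ee F ^ m • w = 0 ∧ X.B (ee F ^ (m - 1) • u) w = 1 ∧
      cc X.B (m - 2) u = (if c then 1 else 0) ∧ cc X.B (m - 2) w = (if c then τ else 0) ∧
      (c = true → ∀ u, ee F ^ m • u = 0 → ee F ^ (m - 1) • u ≠ 0 → cc X.B (m - 2) u ≠ 0) := by
  obtain ⟨N, hN⟩ := exists_period X
  have ho : Odd (m - 2) := by obtain ⟨a, rfl⟩ := hodd; exact ⟨a - 1, by omega⟩
  have hshift : ∀ (u w : X.M) (l : F), ee F ^ m • u = 0 → ee F ^ m • w = 0 → X.B (ee F ^ (m - 1) • u) w = 1 →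
      ee F ^ m • (w + l • u) = 0 ∧ X.B (ee F ^ (m - 1) • u) (w + l • u) = 1 ∧
      cc X.B (m - 2) (w + l • u) = cc X.B (m - 2) w + l * l * cc X.B (m - 2) u + l := by
    intro u w l hu hw hx
    have hk : ee F ^ m • (l • u) = 0 := by rw [smul_comm, hu, smul_zero]
    refine ⟨by rw [smul_add, hw, hk, add_zero], ?_, ?_⟩
    · rw [map_add, smul_right', show X.B (ee F ^ (m - 1) • u) u = 0 from
        cc_even_zero X.inv hN (Nat.Odd.sub_odd hodd odd_one) (by rwa [Nat.sub_add_cancel hm]), mul_zero, add_zero, hx]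
    · rw [cc_add_odd X.inv hN ho (by rwa [show m - 2 + 2 = m by omega]), cc_smul X.inv hN,
        show m - 2 + 1 = m - 1 by omega, smul_comm, smul_left', hx, mul_one]
  by_cases hs : ∃ u : X.M, ee F ^ m • u = 0 ∧ ee F ^ (m - 1) • u ≠ 0 ∧ cc X.B (m - 2) u = 0
  · obtain ⟨u, hu, hu', hq⟩ := hs
    obtain ⟨w, hw, huw⟩ := exists_partner X.inv hN X.nd hu hu' (fun x hx => by
      rw [du_X_sub_C (mul_one 1)] at hx ⊢
      exact stab hX hmax (by omega) x hx)
    rw [du_X_sub_C (mul_one 1)] at hw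
    set d := (X.B (ee F ^ (m - 1) • u) w)⁻¹ with hd
    have hw' : ee F ^ m • (d • w) = 0 := by rw [smul_comm, hw, smul_zero]
    have hx : X.B (ee F ^ (m - 1) • u) (d • w) = 1 := by rw [smul_right', hd, inv_mul_cancel₀ huw]
    obtain ⟨k1, k2, k3⟩ := hshift u (d • w) (cc X.B (m - 2) (d • w)) hu hw' hx
    refine ⟨false, u, _, hu, k1, k2, by simpa using hq, ?_, fun h => absurd h (by decide)⟩
    rw [k3, hq, mul_zero, add_zero, CharTwo.add_self_eq_zero]
    simp
  push Not at hs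
  obtain ⟨u₀, w₀, hu₀, hw₀, hx₀, -, -⟩ := exists_pair hX hm hmax hmem (fun he => absurd he (Nat.not_even_iff_odd.2 hodd))
  have hq₀ := hs u₀ hu₀ fun h => by rw [h, map_zero, LinearMap.zero_apply] at hx₀; exact zero_ne_one hx₀
  obtain ⟨μ, hμ⟩ := exists_sqrt (cc X.B (m - 2) u₀)
  have hμ0 : μ ≠ 0 := fun h => hq₀ (by rw [← hμ, h, mul_zero])
  set u := μ⁻¹ • u₀ with hu
  set w := μ • w₀ with hw
  have hu1 : ee F ^ m • u = 0 := by rw [hu, smul_comm, hu₀, smul_zero]
  have hw1 : ee F ^ m • w = 0 := by rw [hw, smul_comm, hw₀, smul_zero]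
  have hx : X.B (ee F ^ (m - 1) • u) w = 1 := by
    rw [hu, hw, smul_comm, smul_left', smul_right', hx₀, mul_one, inv_mul_cancel₀ hμ0]
  have hqu : cc X.B (m - 2) u = 1 := by
    rw [hu, cc_smul X.inv hN, ← hμ]
    field_simp
  rcases hτ (cc X.B (m - 2) w) with ⟨l, hl⟩ | ⟨l, hl⟩
  · exfalso
    obtain ⟨k1, k2, k3⟩ := hshift u w l hu1 hw1 hx
    refine hs _ k1 (fun h => ?_) (by rw [k3, hqu, mul_one, add_assoc, hl, CharTwo.add_self_eq_zero])
    rw [symE X.inv hN (by rwa [Nat.sub_add_cancel hm]) u, h, map_zero, LinearMap.zero_apply] at k2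
    exact zero_ne_one k2
  · obtain ⟨k1, k2, k3⟩ := hshift u w l hu1 hw1 hx
    refine ⟨true, u, _, hu1, k1, k2, by simpa using hqu, ?_, fun _ => hs⟩
    rw [k3, hqu, mul_one, add_assoc, hl, ← add_assoc, CharTwo.add_self_eq_zero, zero_add]
    simp

end top

/-! ### The complement -/

section comp

variable {X Y : SObj F} {N' : Type u} [AddCommGroup N'] [Module F N'] [Module F[X] N'] [IsScalarTower F F[X] N']
  {φ : N' →ₗ[F[X]] X.M} (Φ : (N' × Y.M) ≃ₗ[F[X]] X.M)
  (hΦ : ∀ a b, X.B (Φ a) (Φ b) = pull X.B φ a.1 b.1 + Y.B a.2 b.2)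

include hΦ

lemma cc_comp (k : ℕ) (p : N') (y : Y.M) : cc X.B k (Φ (p, y)) = cc (pull X.B φ) k p + cc Y.B k y := by
  rw [cc, ← map_smul, hΦ]
  rfl

lemma eps_up {s : ℕ} (h : Eps Y s) : Eps X s := by
  obtain ⟨y, hy, hc⟩ := h
  refine ⟨Φ (0, y), ?_, ?_⟩
  · rw [← map_smul, Prod.smul_mk, hy, smul_zero, ← Prod.zero_eq_mk, map_zero]
  · rw [cc_comp Φ hΦ]
    simpa [cc] using hc

lemma eps_iff {s : ℕ} (h0 : ∀ p : N', ee F ^ s • p = 0 → cc (pull X.B φ) (s - 1) p = 0) : Eps Y s ↔ Eps X s := by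
  refine ⟨eps_up Φ hΦ, ?_⟩
  rintro ⟨x, hx, hc⟩
  obtain ⟨⟨p, y⟩, rfl⟩ := Φ.surjective x
  rw [← map_smul, LinearEquiv.map_eq_zero_iff, Prod.smul_mk, Prod.mk_eq_zero] at hx
  refine ⟨y, hx.2, fun h => hc ?_⟩
  rw [cc_comp Φ hΦ, h0 p hx.1, h, add_zero]

end comp

section branch

variable {X Y : SObj F} {x : X.M} {hx : ee F ^ m • x = 0} (Φ : (blk₁ F m × Y.M) ≃ₗ[F[X]] X.M)
  (h0 : ∀ a, Φ (a, 0) = cyc x hx a) (hΦ : ∀ a b, X.B (Φ a) (Φ b) = pull X.B (cyc x hx) a.1 b.1 + Y.B a.2 b.2)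

include h0 hΦ

/-- the complement of a special vector with value one has zero quadratic value -/
lemma comp_special (hs : Special X m x) : ¬ Eps Y m := by
  rintro ⟨y, hy, hc⟩
  have hz : ee F ^ m • Φ (0, y) = 0 := by rw [← map_smul, Prod.smul_mk, hy, smul_zero, ← Prod.zero_eq_mk, map_zero]
  have h1 := hs.2 _ hz
  have h2 : X.B (ee F ^ (m - 1) • Φ (0, y)) x = 0 := by
    rw [← map_smul, show x = Φ (one' (ee F) m, 0) by rw [h0, cyc_one], hΦ]
    simp
  rw [h2, mul_zero, cc_comp Φ hΦ] at h1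
  refine hc ?_
  simpa [cc] using h1.symm

/-- the complement in the other case has a special vector with value one -/
lemma comp_other (hm : 1 ≤ m) (hx1 : cc X.B (m - 1) x = 1) {e : X.M} (he : Special X m e) (he0 : cc X.B (m - 1) e = 0) :
    ∃ e' : Y.M, Special Y m e' ∧ cc Y.B (m - 1) e' = 1 := by
  obtain ⟨N, hN⟩ := exists_period X
  obtain ⟨⟨p, e'⟩, rfl⟩ := Φ.surjective e
  have hk := he.1
  rw [← map_smul, LinearEquiv.map_eq_zero_iff, Prod.smul_mk, Prod.mk_eq_zero] at hk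
  refine ⟨e', ⟨hk.2, fun z hz => ?_⟩, ?_⟩
  · have hz' : ee F ^ m • Φ (0, z) = 0 := by rw [← map_smul, Prod.smul_mk, hz, smul_zero, ← Prod.zero_eq_mk, map_zero]
    have h := he.2 _ hz'
    rw [cc_comp Φ hΦ, ← map_smul, hΦ] at h
    simpa [cc] using h
  · set P := pull X.B (cyc x hx) with hP
    have hxe : X.B (ee F ^ (m - 1) • x) (Φ (p, e')) = 1 := by
      refine sq_inj ?_
      rw [he.2 x hx, hx1, mul_one]
    have hpx : P (ee F ^ (m - 1) • one' (ee F) m) p = 1 := by
      have h := hxe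
      rw [show x = Φ (one' (ee F) m, 0) by rw [h0, cyc_one], ← map_smul, hΦ] at h
      simpa using h
    have hp1 : cc P (m - 1) p = 1 := by
      obtain ⟨c, hc⟩ := soc₁ hm (x := ee F ^ (m - 1) • p) (by rw [smul_smul, ← pow_succ', Nat.sub_add_cancel hm, hk.1])
      have hPv : P (ee F ^ (m - 1) • one' (ee F) m) (one' (ee F) m) = 1 := by
        rw [hP, pull_apply, map_smul (cyc x hx), cyc_one]; exact hx1
      have hN' : ∀ a b : blk₁ F m, P (ee F ^ (m - 1) • a) b = P (ee F ^ (m - 1) • b) a := fun a b => by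
        rw [hP, pull_apply, pull_apply, map_smul (cyc x hx), map_smul (cyc x hx),
          symE X.inv hN (by rw [Nat.sub_add_cancel hm, ← map_smul (cyc x hx), kill₁, map_zero])]
      have hc1 : c = 1 := by
        have h := hN' (one' (ee F) m) p
        rw [hpx, hc, smul_left', g₁, hPv, mul_one] at h
        exact h.symm
      rw [cc, hc, hc1, one_smul, g₁]
      exact hpx
    rw [cc_comp Φ hΦ, hp1] at he0
    exact (CharTwo.add_eq_zero.1 he0).symm

end branch

end SpEvenCount2557
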